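import Groth.Agent.GaExt87.Sheaf
import Groth.Prelude.Def_CGrpSh3

/-! Extension by zero of a section along a clopen immersion. -/

set_option autoImplicit false
set_option backward.isDefEq.respectTransparency false
set_option backward.isDefEq.respectTransparency.types false

universe u

open CategoryTheory CategoryTheory.Limits AlgebraicGeometry Opposite TopologicalSpace
open Groth.Agent.GaExt87

noncomputable section

namespace Groth.Agent.DualNorm68

local notation "Kf" => Scheme.fppfPrecoverage

variable {S : Scheme.{u}} (F : BigSite.Ab Kf S) {V W : Over S} (j : W ⟶ V)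
  [IsOpenImmersion j.left] [IsClosedImmersion j.left]

/-- the complement -/
def co : V.left.Opens :=
  ⟨(Set.range j.left.base)ᶜ, j.left.isClosedEmbedding.isClosed_range.isOpen_compl⟩

def coOver : Over S := Over.mk ((co j).ι ≫ V.hom)

def coMap : coOver j ⟶ V := Over.homMk (co j).ι rfl

omit [IsOpenImmersion j.left] in
theorem coMap_notMem (z : (coOver j).left) : (coMap j).left.base z ∉ Set.range j.left.base := z.2

abbrev pieces : Bool → Over S := fun b => bif b then W else coOver j

def piecesMap : ∀ b, pieces j b ⟶ V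
  | true => j
  | false => coMap j

omit [IsOpenImmersion j.left] in
theorem cover [IsOpenImmersion j.left] :
    Presieve.ofArrows (fun b => (pieces j b).left) (fun b => (piecesMap j b).left) ∈ (Kf).coverings V.left := by
  change _ ∈ Scheme.precoverage _ _
  rw [Scheme.ofArrows_mem_precoverage_iff]
  refine ⟨fun v => ?_, fun b => ?_⟩
  · by_cases h : v ∈ Set.range j.left.base
    · exact ⟨true, h⟩
    · exact ⟨false, ⟨v, h⟩, rfl⟩
  · cases b
    · exact ⟨inferInstanceAs (Flat (co j).ι), inferInstanceAs (LocallyOfFinitePresentation (co j).ι)⟩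
    · exact ⟨inferInstanceAs (Flat j.left), inferInstanceAs (LocallyOfFinitePresentation j.left)⟩

theorem ext_unique {e e' : BigSite.sect Kf F V} (h : rr F j e = rr F j e')
    (h' : rr F (coMap j) e = rr F (coMap j) e') : e = e' :=
  eq_of_cover F _ (piecesMap j) (cover j) fun b => by
    cases b
    · exact h'
    · exact h

theorem exists_ext (x : BigSite.sect Kf F W) :
    ∃ e, rr F j e = x ∧ rr F (coMap j) e = 0 := by
  obtain ⟨t, ht⟩ := exists_glue F (pieces j) (piecesMap j) (cover j)
    (fun b => match b with | true => x | false => 0) (fun a b Z ga gb hg => by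
      by_cases hne : IsEmpty Z.left
      · exact (subsingleton_of_isEmpty Scheme.zariskiPrecoverage_le_fppfPrecoverage F Z).elim _ _
      obtain ⟨z⟩ := not_isEmpty_iff.1 hne
      have hz := congrArg (fun g : Z ⟶ V => g.left.base z) hg
      cases a <;> cases b
      · simp only [map_zero]
      · exact absurd ⟨gb.left.base z, hz.symm⟩ (coMap_notMem j (ga.left.base z))
      · exact absurd ⟨ga.left.base z, hz⟩ (coMap_notMem j (gb.left.base z))
      · have : ga = gb := Over.OverMorphism.ext ((cancel_mono j.left).1 (congrArg CommaMorphism.left hg))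
        rw [this])
  exact ⟨t, ht true, ht false⟩

/-- extension by zero -/
def ext (x : BigSite.sect Kf F W) : BigSite.sect Kf F V := (exists_ext F j x).choose

theorem rr_ext (x : BigSite.sect Kf F W) : rr F j (ext F j x) = x := (exists_ext F j x).choose_spec.1

theorem rr_co_ext (x : BigSite.sect Kf F W) : rr F (coMap j) (ext F j x) = 0 := (exists_ext F j x).choose_spec.2

theorem rr_ext_of_disjoint (x : BigSite.sect Kf F W) {Z : Over S} (k : Z ⟶ V)
    (h : ∀ z, k.left.base z ∉ Set.range j.left.base) : rr F k (ext F j x) = 0 := by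
  have hr : Set.range k.left.base ⊆ Set.range (co j).ι.base := by
    rw [Scheme.Opens.range_ι]
    rintro _ ⟨z, rfl⟩
    exact h z
  let k' : Z ⟶ coOver j := Over.homMk (IsOpenImmersion.lift (co j).ι k.left hr) (by
    show IsOpenImmersion.lift (co j).ι k.left hr ≫ (co j).ι ≫ V.hom = _
    rw [IsOpenImmersion.lift_fac_assoc, Over.w k])
  have hk : k' ≫ coMap j = k := Over.OverMorphism.ext (IsOpenImmersion.lift_fac _ _ _)
  rw [← hk, rr_comp, rr_co_ext, map_zero]

theorem ext_add (x y : BigSite.sect Kf F W) : ext F j (x + y) = ext F j x + ext F j y :=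
  ext_unique F j (by rw [map_add, rr_ext, rr_ext, rr_ext]) (by rw [map_add, rr_co_ext, rr_co_ext, rr_co_ext, add_zero])

theorem ext_zero : ext F j (0 : BigSite.sect Kf F W) = 0 :=
  ext_unique F j (by rw [rr_ext, map_zero]) (by rw [rr_co_ext, map_zero])

theorem rr_ext_base {V₂ W₂ : Over S} (j₂ : W₂ ⟶ V₂) [IsOpenImmersion j₂.left] [IsClosedImmersion j₂.left]
    (k : V₂ ⟶ V) (l : W₂ ⟶ W) (h : l ≫ j = j₂ ≫ k)
    (hr : ∀ v, k.left.base v ∈ Set.range j.left.base → v ∈ Set.range j₂.left.base) (x : BigSite.sect Kf F W) :
    rr F k (ext F j x) = ext F j₂ (rr F l x) := by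
  refine ext_unique F j₂ ?_ ?_
  · rw [rr_ext, ← rr_comp, ← h, rr_comp, rr_ext]
  · rw [rr_co_ext, ← rr_comp]
    exact rr_ext_of_disjoint F j x _ fun z hz => coMap_notMem j₂ z (hr _ hz)

end Groth.Agent.DualNorm68
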