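import Groth.Agent.GaExt87.Affine
import Mathlib.RingTheory.RingHom.FinitePresentation
import Mathlib.AlgebraicGeometry.Morphisms.FinitePresentation

/-!
# Lifting sections along the quotient by the multiplicative group, Zariski locally on affines
-/

set_option autoImplicit false
set_option linter.style.haveILetI false
set_option backward.isDefEq.respectTransparency false

universe u

open CategoryTheory CategoryTheory.Limits AlgebraicGeometry Opposite MonObj MonoidalCategory CartesianMonoidalCategory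
open Groth.Agent.SGA1Torsor
open scoped TensorProduct

noncomputable section

namespace Groth.Agent.DualNorm68
open Groth.Agent.GaExt87

local notation "Kf" => Scheme.fppfPrecoverage

variable {S : Scheme.{u}} {I Q : BigSite.Ab Kf S} {π : I ⟶ Q}
variable {A : Type u} [CommRing A] (j : Spec (CommRingCat.of A) ⟶ S)

abbrev QA' (B : Type u) [CommRing B] [Algebra A B] : Over S :=
  Over.mk (Spec.map (CommRingCat.ofHom (algebraMap A B)) ≫ j)

theorem exists_lift_algebra (hπ : Sheaf.IsLocallySurjective π) (s : BigSite.sect Kf Q (Over.mk j)) :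
    ∃ (B : Type u) (_ : CommRing B) (_ : Algebra A B), Module.FaithfullyFlat A B ∧
      Algebra.FinitePresentation A B ∧
      ∃ y : BigSite.sect Kf I (QA' j B),
        sap π _ y = rr Q (Over.homMk (Spec.map (CommRingCat.ofHom (algebraMap A B))) rfl : QA' j B ⟶ Over.mk j) s := by
  have hT := Presheaf.imageSieve_mem (QuotSh.J Kf S) π.hom s
  rw [GrothendieckTopology.mem_over_iff] at hT
  obtain ⟨P₀, hP₀, hle⟩ := (Precoverage.mem_toGrothendieck_iff_of_isStableUnderComposition).1 hT
  obtain ⟨idx, X, f, rfl⟩ := P₀.exists_eq_ofArrows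
  obtain ⟨κ, hκ, R', g, hg, hfac⟩ := AdeqSite.exists_finite_affine_refinement
    (P := @Flat ⊓ @LocallyOfFinitePresentation) (fun f hf => have := hf.1; have := hf.2; f.isOpenMap)
    (fun _ _ _ hf => have := hf.1; have := hf.2; ⟨inferInstance, inferInstance⟩) f hP₀
    (R := CommRingCat.of A) (𝟙 (Spec (CommRingCat.of A)))
  change _ ∈ Scheme.precoverage _ _ at hg
  rw [Scheme.ofArrows_mem_precoverage_iff] at hg
  have hy : ∀ k, ∃ y : BigSite.sect Kf I (Over.mk (g k ≫ j)),
      sap π _ y = rr Q (Over.homMk (g k) rfl : Over.mk (g k ≫ j) ⟶ Over.mk j) s := fun k => by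
    obtain ⟨i, h, hh⟩ := hfac k
    rw [Category.comp_id] at hh
    have hmem := (Sieve.overEquiv (Over.mk j) _).downward_closed (hle _ _ ⟨i⟩) h
    rw [← hh, Sieve.overEquiv_iff] at hmem
    exact hmem
  choose y hy using hy
  let T : Scheme.{u} := ∐ fun k => Spec (R' k)
  let d : T ⟶ Spec (CommRingCat.of A) := Sigma.desc g
  haveI : Flat d := IsZariskiLocalAtSource.sigmaDesc fun k => (hg.2 k).1
  haveI : LocallyOfFinitePresentation d := IsZariskiLocalAtSource.sigmaDesc fun k => (hg.2 k).2
  haveI : Surjective d := ⟨fun z => by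
    obtain ⟨k, hk⟩ := hg.1 z
    obtain ⟨x, hx⟩ := hk
    refine ⟨Sigma.ι (fun k => Spec (R' k)) k x, ?_⟩
    rw [← Scheme.Hom.comp_apply]
    simpa [d] using hx⟩
  obtain ⟨φ, hφ⟩ := Spec.map_surjective (T.isoSpec.inv ≫ d)
  algebraize [φ.hom]
  haveI : Flat (Spec.map φ) := by rw [hφ]; infer_instance
  haveI : LocallyOfFinitePresentation (Spec.map φ) := by rw [hφ]; infer_instance
  haveI : Surjective (Spec.map φ) := by rw [hφ]; infer_instance
  haveI : Module.Flat A Γ(T, ⊤) :=
    RingHom.flat_algebraMap_iff.1 (HasRingHomProperty.Spec_iff.1 (‹Flat (Spec.map φ)›))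
  have hfp : Algebra.FinitePresentation A Γ(T, ⊤) :=
    RingHom.finitePresentation_algebraMap.1 (HasRingHomProperty.Spec_iff.1 (‹LocallyOfFinitePresentation (Spec.map φ)›))
  refine ⟨Γ(T, ⊤), inferInstance, inferInstance,
    Module.FaithfullyFlat.of_comap_surjective (fun z => Surjective.surj (f := Spec.map φ) z), hfp, ?_⟩
  let c : ∀ k, Over.mk (g k ≫ j) ⟶ QA' j Γ(T, ⊤) := fun k => Over.homMk (Sigma.ι (fun k => Spec (R' k)) k ≫ T.isoSpec.hom) (by
    show _ ≫ Spec.map φ ≫ j = g k ≫ j
    rw [hφ]; simp [d])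
  have hcov : Presieve.ofArrows (fun k => (Over.mk (g k ≫ j)).left) (fun k => (c k).left) ∈
      (Kf).coverings (QA' j Γ(T, ⊤)).left := by
    refine Scheme.zariskiPrecoverage_le_fppfPrecoverage _ ?_
    rw [Scheme.zariskiPrecoverage, Scheme.ofArrows_mem_precoverage_iff]
    refine ⟨fun z => ?_, fun k => inferInstanceAs (IsOpenImmersion (_ ≫ _))⟩
    obtain ⟨z', rfl⟩ := T.isoSpec.hom.surjective z
    obtain ⟨⟨k, x⟩, rfl⟩ := (sigmaMk fun k => Spec (R' k)).surjective z'
    rw [sigmaMk_mk]
    exact ⟨k, x, Scheme.Hom.comp_apply _ _ _⟩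
  obtain ⟨t, ht⟩ := exists_glue I _ c hcov y (fun i i' Z gi gj hgg => by
    have hl : gi.left ≫ Sigma.ι (fun k => Spec (R' k)) i = gj.left ≫ Sigma.ι (fun k => Spec (R' k)) i' := by
      rw [← cancel_mono T.isoSpec.hom, Category.assoc, Category.assoc]
      exact congrArg CommaMorphism.left hgg
    by_cases hii : i = i'
    · subst hii
      rw [show gi = gj from Over.OverMorphism.ext ((cancel_mono _).1 hl)]
    · haveI : IsEmpty Z.left := isEmpty_of_commSq_sigmaι_of_ne ⟨hl⟩ hii
      haveI := subsingleton_of_isEmpty Scheme.zariskiPrecoverage_le_fppfPrecoverage I Z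
      exact Subsingleton.elim _ _)
  refine ⟨t, eq_of_cover Q _ c hcov fun k => ?_⟩
  rw [← sap_rr, ht, hy, ← rr_comp]
  refine congrArg (fun h => rr Q h s) (Over.OverMorphism.ext ?_)
  show g k = (Sigma.ι (fun k => Spec (R' k)) k ≫ T.isoSpec.hom) ≫ Spec.map φ
  rw [hφ]
  simp [d]


end Groth.Agent.DualNorm68
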