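import Groth.Agent.NormMap87.Sheaf

/-! The norm of a function which is `1` off a section. -/

set_option autoImplicit false
set_option backward.isDefEq.respectTransparency false
set_option backward.isDefEq.respectTransparency.types false

universe u

open CategoryTheory Limits AlgebraicGeometry TopologicalSpace Opposite Matrix

noncomputable section

namespace Groth.Agent.DualNorm68

open Groth.Agent.GrpdLib Groth.Agent.NormFLF

theorem pres_norm_eq {A B : Type u} [CommRing A] [CommRing B] {σ : A →+* B} (P : Pres σ) (ε : B →+* A)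
    (hε : ∀ a, ε (σ a) = a) (t : B) (h : ∀ x, (t - 1) * x = σ (ε x) * (t - 1)) : P.norm t = ε t := by
  have hM : P.mat t - P.mat 1 = replicateCol Unit (P.coord (t - 1)) * replicateRow Unit (fun k => ε (P.e k)) := by
    ext j k
    simp only [Pres.mat, Pres.cross, Matrix.sub_apply, Matrix.of_apply, Matrix.mul_apply, replicateCol_apply,
      replicateRow_apply, Finset.univ_unique, Finset.sum_singleton]
    have := congrFun (congrArg P.coord (h (P.e k))) j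
    rw [P.coord_smul, Pi.smul_apply, smul_eq_mul, sub_mul, map_sub, Pi.sub_apply] at this
    rw [this, mul_comm]
  rw [Pres.norm, hM, det_one_add_replicateCol_mul_replicateRow]
  have h2 := congrArg ε (P.sum_coord (t - 1))
  simp only [map_sum, map_mul, hε] at h2
  rw [map_sub ε, map_one] at h2
  simp only [dotProduct]
  rw [Finset.sum_congr rfl (fun i _ => mul_comm (ε (P.e i)) _), h2]
  abel

theorem appLE_of_eq_id {Y : Scheme.{u}} {f : Y ⟶ Y} (hf : f = 𝟙 Y) (W : Y.Opens) (e : W ≤ f ⁻¹ᵁ W) (a : Γ(Y, W)) :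
    f.appLE W W e a = a := by
  subst hf
  simp only [Scheme.Hom.appLE, Scheme.Hom.id_app, Category.id_comp]
  exact CategoryTheory.congr_fun (Y.presheaf.map_id (op W)) a

theorem norm_eq_of_section {Z Y : Scheme.{u}} (π : Z ⟶ Y) [IsFinite π] [Flat π] [LocallyOfFinitePresentation π]
    (s : Y ⟶ Z) (hs : s ≫ π = 𝟙 Y) [IsOpenImmersion s] (C : Z.Opens)
    (hC : ∀ z, z ∈ C ∨ z ∈ s.opensRange) (t : Γ(Z, ⊤)) (ht : C.ι.appTop t = 1) :
    norm π ⊤ t = s.appTop t := by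
  refine NormFLF.ext_affine fun W hW i => ?_
  have hWV : W = s ⁻¹ᵁ (π ⁻¹ᵁ W) := by rw [← Scheme.Hom.comp_preimage, hs]; rfl
  let ε : Γ(Z, π ⁻¹ᵁ W) →+* Γ(Y, W) := (s.appLE (π ⁻¹ᵁ W) W hWV.le).hom
  let σ : Γ(Y, W) →+* Γ(Z, π ⁻¹ᵁ W) := (π.appLE W (π ⁻¹ᵁ W) le_rfl).hom
  have hε : ∀ a, ε (σ a) = a := fun a => by
    show (π.appLE W (π ⁻¹ᵁ W) le_rfl ≫ s.appLE (π ⁻¹ᵁ W) W hWV.le) a = a
    rw [Scheme.Hom.appLE_comp_appLE]
    exact appLE_of_eq_id hs _ _ _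
  have hεt : ε (Z.presheaf.map ((Opens.map π.base).map i).op t) = Y.presheaf.map i.op (s.appTop t) := by
    show (Z.presheaf.map ((Opens.map π.base).map i).op ≫ s.appLE (π ⁻¹ᵁ W) W hWV.le) t = (s.appTop ≫ Y.presheaf.map i.op) t
    rw [Scheme.Hom.map_appLE]
    rfl
  have hinj : ∀ a : Γ(Z, π ⁻¹ᵁ W), ε a = 0 →
      Z.presheaf.map (homOfLE (inf_le_left : π ⁻¹ᵁ W ⊓ s.opensRange ≤ π ⁻¹ᵁ W)).op a = 0 := by
    intro a ha
    have := s.isIso_app (π ⁻¹ᵁ W ⊓ s.opensRange) inf_le_right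
    refine (ConcreteCategory.bijective_of_isIso (s.app (π ⁻¹ᵁ W ⊓ s.opensRange))).1 ?_
    rw [map_zero]
    have e : s ⁻¹ᵁ (π ⁻¹ᵁ W ⊓ s.opensRange) ≤ W :=
      (s.preimage_mono inf_le_left).trans hWV.ge
    show (Z.presheaf.map (homOfLE _).op ≫ s.app _) a = 0
    have e2 : Z.presheaf.map (homOfLE (inf_le_left : π ⁻¹ᵁ W ⊓ s.opensRange ≤ π ⁻¹ᵁ W)).op ≫ s.app _ =
        s.appLE (π ⁻¹ᵁ W) W hWV.le ≫ Y.presheaf.map (homOfLE e).op := by
      rw [Scheme.Hom.appLE_map, Scheme.Hom.app_eq_appLE, Scheme.Hom.map_appLE]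
    rw [e2]
    show Y.presheaf.map (homOfLE e).op (ε a) = 0
    rw [ha, map_zero]
  rw [norm_spec π (U := ⊤) t W hW i, ← hεt, nW]
  refine pres_norm_eq _ ε hε _ fun x => ?_
  refine TopCat.Sheaf.eq_of_locally_eq' Z.sheaf
    (fun b : Bool => if b then π ⁻¹ᵁ W ⊓ C else π ⁻¹ᵁ W ⊓ s.opensRange) (π ⁻¹ᵁ W)
    (fun b => homOfLE (by cases b <;> exact inf_le_left)) (fun z hz => ?_) _ _ fun b => ?_
  · rcases hC z with h | h
    · exact Opens.mem_iSup.2 ⟨true, hz, h⟩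
    · exact Opens.mem_iSup.2 ⟨false, hz, h⟩
  cases b
  · change Z.presheaf.map (homOfLE (inf_le_left : π ⁻¹ᵁ W ⊓ s.opensRange ≤ π ⁻¹ᵁ W)).op _ =
      Z.presheaf.map (homOfLE (inf_le_left : π ⁻¹ᵁ W ⊓ s.opensRange ≤ π ⁻¹ᵁ W)).op _
    rw [← sub_eq_zero, ← map_sub]
    refine hinj _ ?_
    rw [map_sub, map_mul, map_mul, hε]
    ring
  · change Z.presheaf.map (homOfLE (inf_le_left : π ⁻¹ᵁ W ⊓ C ≤ π ⁻¹ᵁ W)).op _ =
      Z.presheaf.map (homOfLE (inf_le_left : π ⁻¹ᵁ W ⊓ C ≤ π ⁻¹ᵁ W)).op _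
    have h1 : Z.presheaf.map (homOfLE (inf_le_left : π ⁻¹ᵁ W ⊓ C ≤ π ⁻¹ᵁ W)).op
        (Z.presheaf.map ((Opens.map π.base).map i).op t) = 1 := by
      have h0 : Z.presheaf.map (homOfLE (le_top : C ≤ ⊤)).op t = 1 :=
        (NormMap87.res_eq_topIso C t).trans (by rw [ht, map_one])
      have h3 := congrArg (Z.presheaf.map (homOfLE (inf_le_right : π ⁻¹ᵁ W ⊓ C ≤ C)).op) h0
      rw [map_one, ← CommRingCat.comp_apply, ← CategoryTheory.Functor.map_comp] at h3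
      rw [← CommRingCat.comp_apply, ← CategoryTheory.Functor.map_comp]
      exact h3
    simp only [map_mul, map_sub, map_one, h1, sub_self, zero_mul, mul_zero]

end Groth.Agent.DualNorm68
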