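import Groth.Agent.DualNorm68.Ext
import Groth.Agent.DualNorm68.Norm
import Mathlib.AlgebraicGeometry.Morphisms.Etale
import Mathlib.AlgebraicGeometry.Morphisms.FlatMono

/-! The norm map on dual sheaves along a finite étale morphism is bijective, given local splittings. -/

set_option autoImplicit false
set_option linter.unusedSectionVars false
set_option linter.style.haveILetI false
set_option backward.isDefEq.respectTransparency false
set_option backward.isDefEq.respectTransparency.types false

universe u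

open CategoryTheory CategoryTheory.Limits AlgebraicGeometry Opposite TopologicalSpace MonObj GrpObj MonoidalCategory CartesianMonoidalCategory
open Groth.Agent.GaExt87 Groth.Agent.RedPts Groth.Agent.NormMap87

noncomputable section

namespace Groth.Agent.DualNorm68

local notation "Kf" => Scheme.fppfPrecoverage

variable {X X' : Scheme.{u}} (f : X' ⟶ X) [IsFinite f] [Etale f]

local notation "P" => Over.pullback f

theorem section_isOpen {T : Over X} (s : T.left ⟶ ((P).obj T).left) (hs : s ≫ proj f T = 𝟙 _) :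
    IsOpenImmersion s ∧ IsClosedImmersion s := by
  have : Etale (proj f T) := inferInstanceAs (Etale (pullback.fst T.hom f))
  have h1 : IsClosedImmersion (s ≫ proj f T) := by rw [hs]; infer_instance
  have h2 : Etale (s ≫ proj f T) := by rw [hs]; infer_instance
  have : IsClosedImmersion s := IsClosedImmersion.of_comp s (proj f T)
  have : Etale s := Etale.of_comp s (proj f T)
  exact ⟨IsOpenImmersion.of_flat_of_mono s, inferInstance⟩

variable {f}

/-- an `X'`-scheme as an `X`-scheme -/
abbrev L (f : X' ⟶ X) (W : Over X') : Over X := Over.mk (W.hom ≫ f)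

variable (f) in
/-- the graph -/
def eta (W : Over X') : W ⟶ (P).obj (L f W) :=
  Over.homMk (pullback.lift (𝟙 W.left) W.hom (by simp)) (pullback.lift_snd _ _ _)

theorem eta_proj (W : Over X') : (eta f W).left ≫ proj f (L f W) = 𝟙 _ := pullback.lift_fst _ _ _

instance (W : Over X') : IsOpenImmersion (eta f W).left := (section_isOpen f (T := L f W) _ (eta_proj W)).1
instance (W : Over X') : IsClosedImmersion (eta f W).left := (section_isOpen f (T := L f W) _ (eta_proj W)).2

abbrev Lmap {W₁ W₂ : Over X'} (k : W₂ ⟶ W₁) : L f W₂ ⟶ L f W₁ :=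
  Over.homMk k.left (by simp)

theorem eta_nat {W₁ W₂ : Over X'} (k : W₂ ⟶ W₁) :
    k ≫ eta f W₁ = eta f W₂ ≫ (P).map (Lmap k) := by
  apply Over.OverMorphism.ext
  apply pullback.hom_ext <;> simp [eta, Lmap]
  exact (Category.id_comp _).symm

theorem eta_range {W₁ W₂ : Over X'} (k : W₂ ⟶ W₁) (v : ((P).obj (L f W₂)).left)
    (hv : ((P).map (Lmap k)).left.base v ∈ Set.range (eta f W₁).left.base) : v ∈ Set.range (eta f W₂).left.base := by
  let g := ((P).map (Lmap (f := f) k)).left
  let a := pullback.fst g (eta f W₁).left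
  have hfac : (a ≫ proj f (L f W₂)) ≫ (eta f W₂).left = a := by
    have hc := pullback.condition (f := g) (g := (eta f W₁).left)
    have h1 : a ≫ proj f (L f W₂) ≫ k.left = pullback.snd g (eta f W₁).left := by
      have := congrArg (· ≫ proj f (L f W₁)) hc
      simp only [Category.assoc, eta_proj, Category.comp_id] at this
      rw [← this]
      simp [g, a, proj, Lmap]
    have h2 : a ≫ pullback.snd _ _ = pullback.snd g (eta f W₁).left ≫ W₁.hom := by
      have e1 : (eta f W₁).left ≫ pullback.snd (L f W₁).hom f = W₁.hom := pullback.lift_snd _ _ _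
      have e2 : g ≫ pullback.snd (L f W₁).hom f = pullback.snd (L f W₂).hom f := pullback.lift_snd _ _ _
      have := congrArg (· ≫ pullback.snd (L f W₁).hom f) hc
      simp only [Category.assoc] at this
      rw [e1, e2] at this
      exact this
    apply pullback.hom_ext
    · simp [eta, proj]
    · simp only [Category.assoc, eta, Over.homMk_left, pullback.lift_snd]
      rw [h2, ← Over.w k]
      simpa [proj] using congrArg (· ≫ W₁.hom) h1
  have : v ∈ Set.range a.base := by
    rw [Scheme.Pullback.range_fst]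
    exact hv
  obtain ⟨z, rfl⟩ := this
  exact ⟨(a ≫ proj f (L f W₂)).base z, congrArg (fun m => m.base z) hfac⟩

/-- the function of a section of `𝔾_m` -/
abbrev fn {S : Scheme.{u}} {V : Over S} (x : BigSite.sect Kf (CGrpSh2.Gm Kf S) V) : Γ(V.left, ⊤) :=
  Red.gmFn (Additive.toMul x.down)

theorem fn_zero {S : Scheme.{u}} (V : Over S) : fn (0 : BigSite.sect Kf (CGrpSh2.Gm Kf S) V) = 1 := gmFn_one V

theorem fn_add {S : Scheme.{u}} {V : Over S} (x y : BigSite.sect Kf (CGrpSh2.Gm Kf S) V) : fn (x + y) = fn x * fn y :=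
  gm_mul _ _

theorem fn_injective {S : Scheme.{u}} {V : Over S} : Function.Injective (fn (S := S) (V := V)) :=
  fun _ _ h => ULift.ext _ _ (congrArg Additive.ofMul (gm_injective h))

theorem fn_rr {S : Scheme.{u}} {V V' : Over S} (k : V' ⟶ V) (x : BigSite.sect Kf (CGrpSh2.Gm Kf S) V) :
    fn (rr (CGrpSh2.Gm Kf S) k x) = k.left.appTop (fn x) := rfl

theorem fn_surjective {S : Scheme.{u}} {V : Over S} (c : Γ(V.left, ⊤)) (hc : IsUnit c) :
    ∃ x : BigSite.sect Kf (CGrpSh2.Gm Kf S) V, fn x = c := by
  obtain ⟨p, hp⟩ := gm_surjective (X := V) hc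
  exact ⟨ULift.up (Additive.ofMul p), hp⟩

theorem fn_isUnit {S : Scheme.{u}} {V : Over S} (x : BigSite.sect Kf (CGrpSh2.Gm Kf S) V) : IsUnit (fn x) := gm_isUnit _

variable {N : CGrpSh3.pushGm Kf f ⟶ CGrpSh2.Gm Kf X} (hN : CGrpSh3.IsNormMap Kf f N) {F : BigSite.Ab Kf X'}

include hN in
theorem fn_N (U : Over X) (t : BigSite.sect Kf (CGrpSh2.Gm Kf X') ((P).obj U)) :
    fn (N.hom.app (op U) t) = NormFLF.norm (proj f U) ⊤ (fn t) :=
  (congrArg Red.gmFn (normPt_eq_npt f Kf hN U (Additive.toMul t.down))).trans (gmFn_npt f U _)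

abbrev pF (F : BigSite.Ab Kf X') : BigSite.Ab Kf X := (BigSite.pushBig Kf f AddCommGrpCat.{u + 1}).obj F

/-- apply a morphism of restricted sheaves -/
abbrev ev {S : Scheme.{u}} {A B : BigSite.Ab Kf S} {T : Over S} (χ : A.over T ⟶ B.over T) (U : Over T) :
    BigSite.sect Kf A U.left →+ BigSite.sect Kf B U.left :=
  (χ.hom.app (op U)).hom

theorem ev_nat {S : Scheme.{u}} {A B : BigSite.Ab Kf S} {T : Over S} (χ : A.over T ⟶ B.over T) {U U' : Over T}
    (k : U' ⟶ U) (x : BigSite.sect Kf A U.left) : ev χ U' (rr A k.left x) = rr B k.left (ev χ U x) :=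
  ConcreteCategory.congr_hom (χ.hom.naturality k.op) x

variable {T : Over X}

/-- an object over `T'` as an object over `T` -/
def down (W : Over ((P).obj T)) : Over T :=
  Over.mk (Y := L f W.left) (Over.homMk (W.hom.left ≫ proj f T) (by
    show (W.hom.left ≫ pullback.fst T.hom f) ≫ T.hom = W.left.hom ≫ f
    rw [← Over.w W.hom]
    simp [pullback.condition]))

def downMap {W₁ W₂ : Over ((P).obj T)} (k : W₂ ⟶ W₁) : down W₂ ⟶ down W₁ :=
  Over.homMk (Lmap k.left) (by
    apply Over.OverMorphism.ext
    show k.left.left ≫ W₁.hom.left ≫ proj f T = W₂.hom.left ≫ proj f T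
    rw [← Category.assoc, ← Over.comp_left, Over.w k])

/-- the graph over `T'` -/
def etaT (W : Over ((P).obj T)) : W ⟶ (Over.post (P)).obj (down W) :=
  Over.homMk (eta f W.left) (by
    apply Over.OverMorphism.ext
    apply pullback.hom_ext
    · have e : ((P).map (down W).hom).left ≫ pullback.fst T.hom f =
          pullback.fst (L f W.left).hom f ≫ (down W).hom.left := pullback.lift_fst _ _ _
      show ((eta f W.left).left ≫ ((P).map (down W).hom).left) ≫ pullback.fst T.hom f = W.hom.left ≫ pullback.fst T.hom f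
      rw [Category.assoc, e, ← Category.assoc, show (eta f W.left).left ≫ pullback.fst (L f W.left).hom f = 𝟙 _ from eta_proj W.left]
      exact Category.id_comp _
    · have e : ((P).map (down W).hom).left ≫ pullback.snd T.hom f = pullback.snd (L f W.left).hom f :=
        pullback.lift_snd _ _ _
      show ((eta f W.left).left ≫ ((P).map (down W).hom).left) ≫ pullback.snd T.hom f = W.hom.left ≫ pullback.snd T.hom f
      rw [Category.assoc, e]
      exact (pullback.lift_snd _ _ _).trans (Over.w W.hom).symm)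

include hN in
theorem norm_ext (χ : F.over ((P).obj T) ⟶ (CGrpSh2.Gm Kf X').over ((P).obj T)) (W : Over ((P).obj T))
    (x : BigSite.sect Kf F W.left) :
    fn (N.hom.app (op (down W).left) (ev χ ((Over.post (P)).obj (down W)) (ext F (eta f W.left) x))) =
      fn (ev χ W x) := by
  set y : BigSite.sect Kf (CGrpSh2.Gm Kf X') ((P).obj (L f W.left)) :=
    ev χ ((Over.post (P)).obj (down W)) (ext F (eta f W.left) x) with hy
  have h1 : rr (CGrpSh2.Gm Kf X') (eta f W.left) y = ev χ W x :=
    (ev_nat χ (etaT W) (ext F (eta f W.left) x)).symm.trans (congrArg (ev χ W) (rr_ext F (eta f W.left) x))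
  have h2 : rr (CGrpSh2.Gm Kf X') (coMap (eta f W.left)) y = 0 := by
    let c : Over.mk (coMap (eta f W.left) ≫ ((Over.post (P)).obj (down W)).hom) ⟶ (Over.post (P)).obj (down W) :=
      Over.homMk (coMap (eta f W.left)) rfl
    refine (ev_nat χ c (ext F (eta f W.left) x)).symm.trans ?_
    exact (congrArg (ev χ _) (rr_co_ext F (eta f W.left) x)).trans (map_zero _)
  refine (fn_N hN (L f W.left) y).trans ?_
  refine (norm_eq_of_section (proj f (L f W.left)) (eta f W.left).left (eta_proj _) (co (eta f W.left))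
    (fun z => (em (z ∈ Set.range (eta f W.left).left.base)).symm) (fn y) ?_).trans ?_
  · exact (congrArg fn h2).trans (fn_zero _)
  · exact congrArg fn h1

include hN in
theorem dual_app (χ : F.over ((P).obj T) ⟶ (CGrpSh2.Gm Kf X').over ((P).obj T)) (U : Over T)
    (y : BigSite.sect Kf F ((P).obj U.left)) :
    ev (A := pF F) (B := CGrpSh2.Gm Kf X) ((CGrpSh3.dualNormMap Kf f N F).hom.app (op T) χ) U y =
      N.hom.app (op U.left) (ev χ ((Over.post (P)).obj U) y) := rfl

include hN in
theorem dual_injective : Function.Injective ((CGrpSh3.dualNormMap Kf f N F).hom.app (op T)) := by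
  intro χ χ' h
  refine Sheaf.hom_ext (NatTrans.ext (funext fun ⟨W⟩ => AddCommGrpCat.ext fun x => ?_))
  apply fn_injective
  refine ((norm_ext hN χ W x).symm.trans ?_).trans (norm_ext hN χ' W x)
  rw [← dual_app hN χ (down W) (ext F (eta f W.left) x), ← dual_app hN χ' (down W) (ext F (eta f W.left) x)]
  exact congrArg (fun ψ => fn (ev (A := pF F) (B := CGrpSh2.Gm Kf X) ψ (down W) (ext F (eta f W.left) x))) h

/-- value of the inverse -/
theorem exists_val (ψ : (pF F).over T ⟶ (CGrpSh2.Gm Kf X).over T) (W : Over ((P).obj T))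
    (x : BigSite.sect Kf F W.left) :
    ∃ z : BigSite.sect Kf (CGrpSh2.Gm Kf X') W.left, fn z = fn (ev ψ (down W) (ext F (eta f W.left) x)) :=
  fn_surjective _ (fn_isUnit (ev ψ (down W) (ext F (eta f W.left) x)))

theorem exists_inv (ψ : (pF F).over T ⟶ (CGrpSh2.Gm Kf X).over T) :
    ∃ χ : F.over ((P).obj T) ⟶ (CGrpSh2.Gm Kf X').over ((P).obj T), ∀ (W : Over ((P).obj T)) (x : BigSite.sect Kf F W.left),
      fn (ev χ W x) = fn (ev ψ (down W) (ext F (eta f W.left) x)) := by
  choose z hz using exists_val ψ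
  let app : ∀ W : Over ((P).obj T), BigSite.sect Kf F W.left →+ BigSite.sect Kf (CGrpSh2.Gm Kf X') W.left :=
    fun W => AddMonoidHom.mk' (z W) fun x y => fn_injective (by
      refine Eq.trans ?_ (fn_add (z W x) (z W y)).symm
      rw [hz, hz, hz, ext_add]
      exact (congrArg fn (map_add (ev ψ (down W)) (ext F (eta f W.left) x) (ext F (eta f W.left) y))).trans (fn_add _ _))
  refine ⟨⟨{ app := fun W => AddCommGrpCat.ofHom (app (unop W)), naturality := fun W₁ W₂ k => AddCommGrpCat.ext fun x => ?_ }⟩,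
    fun W x => hz W x⟩
  apply fn_injective
  show fn (z (unop W₂) (rr F k.unop.left x)) = fn (rr (CGrpSh2.Gm Kf X') k.unop.left (z (unop W₁) x))
  rw [fn_rr, hz, hz]
  have h1 : rr F ((P).map (Lmap k.unop.left)) (ext F (eta f (unop W₁).left) x) =
      ext F (eta f (unop W₂).left) (rr F k.unop.left x) :=
    rr_ext_base F (eta f (unop W₁).left) (eta f (unop W₂).left) ((P).map (Lmap k.unop.left)) k.unop.left
      (eta_nat _) (eta_range _) x
  rw [← h1]
  exact congrArg fn (ev_nat ψ (downMap k.unop) (ext F (eta f (unop W₁).left) x))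

/-- local splitting into sections -/
def HasSplit (f : X' ⟶ X) : Prop :=
  ∀ U : Over X, ∃ (κ : Type u) (V : κ → Over X) (p : ∀ i, V i ⟶ U),
    Presieve.ofArrows (fun i => (V i).left) (fun i => (p i).left) ∈ (Kf).coverings U.left ∧
    ∀ i, ∃ (n : ℕ) (σ : Fin n → ((V i).left ⟶ ((Over.pullback f).obj (V i)).left)),
      (∀ a, σ a ≫ proj f (V i) = 𝟙 _) ∧
      (∀ a b, a ≠ b → ∀ v w, (σ a).base v ≠ (σ b).base w) ∧
      ∀ z, ∃ a, z ∈ Set.range (σ a).base

theorem agree_section (ψ₁ ψ₂ : (pF F).over T ⟶ (CGrpSh2.Gm Kf X).over T)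
    (h : ∀ (W : Over ((P).obj T)) (x : BigSite.sect Kf F W.left),
      ev ψ₁ (down W) (ext F (eta f W.left) x) = ev ψ₂ (down W) (ext F (eta f W.left) x))
    (U : Over T) (s : U.left.left ⟶ ((P).obj U.left).left) (hs : s ≫ proj f U.left = 𝟙 _)
    (j : Over.mk (s ≫ pullback.snd U.left.hom f) ⟶ (P).obj U.left) (hj : j.left = s)
    [IsOpenImmersion j.left] [IsClosedImmersion j.left]
    (x : BigSite.sect Kf F (Over.mk (s ≫ pullback.snd U.left.hom f))) :
    ev ψ₁ U (ext F j x) = ev ψ₂ U (ext F j x) := by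
  let W : Over ((P).obj T) := Over.mk (j ≫ (P).map U.hom)
  let k : U ⟶ down W := Over.homMk (Over.homMk (𝟙 _) (by
      show 𝟙 _ ≫ (s ≫ pullback.snd U.left.hom f) ≫ f = U.left.hom
      rw [Category.id_comp, Category.assoc, ← pullback.condition, ← Category.assoc]
      rw [show s ≫ pullback.fst U.left.hom f = 𝟙 _ from hs, Category.id_comp])) (by
      apply Over.OverMorphism.ext
      show 𝟙 _ ≫ (j ≫ (P).map U.hom).left ≫ proj f T = U.hom.left
      rw [Over.comp_left, hj, Category.assoc]
      have : ((P).map U.hom).left ≫ proj f T = proj f U.left ≫ U.hom.left := pullback.lift_fst _ _ _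
      rw [this, ← Category.assoc s, hs]
      simp)
  have hk : eta f W.left = j ≫ (P).map k.left := by
    apply Over.OverMorphism.ext
    apply pullback.hom_ext
    · have e : ((P).map k.left).left ≫ proj f (L f W.left) = proj f U.left ≫ k.left.left := pullback.lift_fst _ _ _
      show (eta f W.left).left ≫ proj f (L f W.left) = (j.left ≫ ((P).map k.left).left) ≫ proj f (L f W.left)
      rw [eta_proj, Category.assoc, e, hj, ← Category.assoc s, hs]
      exact (Category.id_comp _).symm
    · have e : ((P).map k.left).left ≫ pullback.snd (L f W.left).hom f = pullback.snd U.left.hom f :=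
        pullback.lift_snd _ _ _
      show (eta f W.left).left ≫ pullback.snd (L f W.left).hom f = (j.left ≫ ((P).map k.left).left) ≫ pullback.snd (L f W.left).hom f
      rw [Category.assoc, e, hj]
      exact pullback.lift_snd _ _ _
  have e : rr F ((P).map k.left) (ext F (eta f W.left) x) = ext F j x := by
    refine (rr_ext_base F (eta f W.left) j ((P).map k.left) (𝟙 _) (by rw [Category.id_comp, hk]) (fun v hv => ?_) x).trans
      (congrArg _ (rr_id F x))
    obtain ⟨w, hw⟩ := hv
    rw [hk] at hw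
    refine ⟨w, ?_⟩
    have hinv : IsIso ((P).map k.left).left := by
      haveI : IsIso k.left := by
        haveI : IsIso ((Over.forget X).map k.left) := inferInstanceAs (IsIso (𝟙 U.left.left))
        exact isIso_of_reflects_iso k.left (Over.forget X)
      exact inferInstanceAs (IsIso ((Over.forget X').map ((P).map k.left)))
    exact ((P).map k.left).left.homeomorph.injective hw
  rw [← e]
  exact (ev_nat ψ₁ k (ext F (eta f W.left) x)).trans
    ((congrArg _ (h W x)).trans (ev_nat ψ₂ k (ext F (eta f W.left) x)).symm)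

theorem agree (hsplit : HasSplit f) (ψ₁ ψ₂ : (pF F).over T ⟶ (CGrpSh2.Gm Kf X).over T)
    (h : ∀ (W : Over ((P).obj T)) (x : BigSite.sect Kf F W.left),
      ev ψ₁ (down W) (ext F (eta f W.left) x) = ev ψ₂ (down W) (ext F (eta f W.left) x)) : ψ₁ = ψ₂ := by
  refine Sheaf.hom_ext (NatTrans.ext (funext fun ⟨U⟩ => AddCommGrpCat.ext fun y => ?_))
  change ev ψ₁ U y = ev ψ₂ U y
  obtain ⟨κ, V, p, hcov, hV⟩ := hsplit U.left
  refine eq_of_cover _ V p hcov fun i => ?_
  let U' : Over T := Over.mk (p i ≫ U.hom)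
  let k : U' ⟶ U := Over.homMk (p i) rfl
  refine (ev_nat ψ₁ k y).symm.trans (Eq.trans ?_ (ev_nat ψ₂ k y))
  set y' : BigSite.sect Kf F ((P).obj (V i)) := rr F ((P).map (p i)) y
  change ev ψ₁ U' y' = ev ψ₂ U' y'
  obtain ⟨n, σ, hσ, hdis, hsur⟩ := hV i
  let W : Fin n → Over X' := fun a => Over.mk (σ a ≫ pullback.snd (V i).hom f)
  let j : ∀ a, W a ⟶ (P).obj (V i) := fun a => Over.homMk (σ a) rfl
  haveI : ∀ a, IsOpenImmersion (j a).left := fun a => (section_isOpen f (σ a) (hσ a)).1
  haveI : ∀ a, IsClosedImmersion (j a).left := fun a => (section_isOpen f (σ a) (hσ a)).2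
  have hsum : y' = ∑ a, ext F (j a) (rr F (j a) y') := by
    refine eq_of_cover F W j ?_ fun b => ?_
    · change _ ∈ Scheme.precoverage _ _
      rw [Scheme.ofArrows_mem_precoverage_iff]
      refine ⟨fun z => hsur z, fun a => ⟨inferInstanceAs (Flat (j a).left), inferInstanceAs (LocallyOfFinitePresentation (j a).left)⟩⟩
    · rw [map_sum, Finset.sum_eq_single b (fun a _ hab => rr_ext_of_disjoint F (j a) _ (j b)
        (fun z ⟨v, hv⟩ => hdis a b hab v z hv)) (by simp), rr_ext]
  rw [hsum]
  refine (map_sum (ev ψ₁ U') _ _).trans (Eq.trans (Finset.sum_congr rfl fun a _ => ?_) (map_sum (ev ψ₂ U') _ _).symm)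
  exact agree_section ψ₁ ψ₂ h U' (σ a) (hσ a) (j a) rfl _

include hN in
theorem isIso_dualNormMap (hsplit : HasSplit f) : IsIso (CGrpSh3.dualNormMap Kf f N F) := by
  have happ : ∀ T : (Over X)ᵒᵖ, IsIso ((CGrpSh3.dualNormMap Kf f N F).hom.app T) := fun ⟨T⟩ => by
    refine (ConcreteCategory.isIso_iff_bijective _).mpr ⟨dual_injective hN, fun ψ => ?_⟩
    obtain ⟨χ, hχ⟩ := exists_inv ψ
    refine ⟨χ, agree hsplit _ _ fun W x => fn_injective ?_⟩
    rw [dual_app hN]
    exact (norm_ext hN χ W x).trans (hχ W x)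
  have : IsIso (CGrpSh3.dualNormMap Kf f N F).hom := NatIso.isIso_of_isIso_app _
  exact (isIso_iff_of_reflects_iso _ (sheafToPresheaf _ _)).1 this

end Groth.Agent.DualNorm68
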