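import Groth.Agent.GaExt87.Sheaf
import Groth.Agent.DiagRig.CharHom
import Groth.Agent.RedPts.Basic
import Groth.Agent.DualNorm68.Main
import Mathlib.FieldTheory.RatFunc.Basic

/-! Endomorphisms of the sheaf `𝔾_m` over an object: powers over fields, rigidity over affine bases. -/

set_option autoImplicit false
set_option linter.unusedSectionVars false
set_option linter.style.haveILetI false
set_option backward.isDefEq.respectTransparency false
set_option backward.isDefEq.respectTransparency.types false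

universe u

open CategoryTheory CategoryTheory.Limits AlgebraicGeometry Opposite TopologicalSpace
open Groth.Agent.GaExt87 Groth.Agent.DiagRig

noncomputable section

namespace Groth.Agent.DualNorm68

local notation "Kf" => Scheme.fppfPrecoverage

variable {S : Scheme.{u}}

local notation "𝔾" => CGrpSh2.Gm Kf S

abbrev End' (V : Over S) := (CGrpSh2.Gm Kf S).over V ⟶ (CGrpSh2.Gm Kf S).over V

/-- restriction of an endomorphism -/
abbrev resE {V V' : Over S} (k : V' ⟶ V) (χ : End' V) : End' V' := rr (CGrpSh2.dualSh Kf 𝔾) k χ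

theorem ev_resE {V V' : Over S} (k : V' ⟶ V) (χ : End' V) (U : Over V') (x : BigSite.sect Kf 𝔾 U.left) :
    ev (resE k χ) U x = ev χ ((Over.map k).obj U) x := rfl

/-- units as sections over an affine object -/
def secAux {R : CommRingCat.{u}} (v : Spec R ⟶ S) (a : Rˣ) :
    ∃ z : BigSite.sect Kf 𝔾 (Over.mk v), fn z = (Scheme.ΓSpecIso R).inv (a : R) :=
  fn_surjective _ (a.isUnit.map (Scheme.ΓSpecIso R).inv.hom)

def sec {R : CommRingCat.{u}} (v : Spec R ⟶ S) (a : Rˣ) : BigSite.sect Kf 𝔾 (Over.mk v) := (secAux v a).choose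

theorem fn_sec {R : CommRingCat.{u}} (v : Spec R ⟶ S) (a : Rˣ) : fn (sec v a) = (Scheme.ΓSpecIso R).inv (a : R) :=
  (secAux v a).choose_spec

def unt {R : CommRingCat.{u}} {v : Spec R ⟶ S} (z : BigSite.sect Kf 𝔾 (Over.mk v)) : Rˣ :=
  ((fn_isUnit z).map (Scheme.ΓSpecIso R).hom.hom).unit

theorem coe_unt {R : CommRingCat.{u}} {v : Spec R ⟶ S} (z : BigSite.sect Kf 𝔾 (Over.mk v)) :
    (unt z : R) = (Scheme.ΓSpecIso R).hom (fn z) := rfl

theorem inv_hom_apply {R : CommRingCat.{u}} (x : Γ(Spec R, ⊤)) :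
    (Scheme.ΓSpecIso R).inv ((Scheme.ΓSpecIso R).hom x) = x := by
  rw [← CommRingCat.comp_apply, Iso.hom_inv_id]; rfl

theorem hom_inv_apply {R : CommRingCat.{u}} (x : R) :
    (Scheme.ΓSpecIso R).hom ((Scheme.ΓSpecIso R).inv x) = x := by
  rw [← CommRingCat.comp_apply, Iso.inv_hom_id]; rfl

theorem sec_unt {R : CommRingCat.{u}} {v : Spec R ⟶ S} (z : BigSite.sect Kf 𝔾 (Over.mk v)) : sec v (unt z) = z :=
  fn_injective (by rw [fn_sec, coe_unt, inv_hom_apply])

theorem unt_sec {R : CommRingCat.{u}} (v : Spec R ⟶ S) (a : Rˣ) : unt (sec v a) = a :=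
  Units.ext (by rw [coe_unt, fn_sec, hom_inv_apply])

theorem unt_add {R : CommRingCat.{u}} {v : Spec R ⟶ S} (z w : BigSite.sect Kf 𝔾 (Over.mk v)) :
    unt (z + w) = unt z * unt w := Units.ext (by rw [Units.val_mul, coe_unt, coe_unt, coe_unt, fn_add, map_mul])

theorem sec_mul {R : CommRingCat.{u}} (v : Spec R ⟶ S) (a b : Rˣ) : sec v (a * b) = sec v a + sec v b := by
  rw [← unt_sec v a, ← unt_sec v b, ← unt_add, sec_unt, unt_sec, unt_sec]

theorem unt_rr {R R' : CommRingCat.{u}} (k : R ⟶ R') {v : Spec R ⟶ S} {v' : Spec R' ⟶ S}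
    (g : Over.mk v' ⟶ Over.mk v) (hg : g.left = Spec.map k) (z : BigSite.sect Kf 𝔾 (Over.mk v)) :
    unt (rr 𝔾 g z) = Units.map k.hom.toMonoidHom (unt z) := by
  refine Units.ext ?_
  show (Scheme.ΓSpecIso R').hom (g.left.appTop (fn z)) = k ((Scheme.ΓSpecIso R).hom (fn z))
  rw [hg]
  exact congrArg (fun q : Γ(Spec R, ⊤) ⟶ R' => q (fn z)) (Scheme.ΓSpecIso_naturality k)

section Aff

variable {R : Type u} [CommRing R] (v : Spec (CommRingCat.of R) ⟶ S)

abbrev base : Over S := Over.mk v

abbrev tst (T : Type u) [CommRing T] [Algebra R T] : Over (base v) :=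
  Over.mk (Y := Over.mk (Spec.map (CommRingCat.ofHom (algebraMap R T)) ≫ v))
    (Over.homMk (Spec.map (CommRingCat.ofHom (algebraMap R T))) rfl)

/-- the value on units -/
def valHom (χ : End' (base v)) (T : Type u) [CommRing T] [Algebra R T] : Tˣ →* Tˣ :=
  MonoidHom.mk' (fun a => unt (R := CommRingCat.of T) (ev χ (tst v T) (sec (R := CommRingCat.of T) _ a)))
    (fun a b => (congrArg unt ((congrArg (ev χ (tst v T)) (sec_mul (R := CommRingCat.of T) _ a b)).trans
      (map_add (ev χ (tst v T)) _ _))).trans (unt_add _ _))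

theorem valHom_nat (χ : End' (base v)) {T T' : Type u} [CommRing T] [Algebra R T] [CommRing T'] [Algebra R T']
    (k : T →ₐ[R] T') (a : Tˣ) :
    Units.map k.toRingHom.toMonoidHom (valHom v χ T a) = valHom v χ T' (Units.map k.toRingHom.toMonoidHom a) := by
  have hk : Spec.map (CommRingCat.ofHom k.toRingHom) ≫ Spec.map (CommRingCat.ofHom (algebraMap R T)) =
      Spec.map (CommRingCat.ofHom (algebraMap R T')) := by
    rw [← Spec.map_comp]
    exact congrArg Spec.map (CommRingCat.hom_ext k.comp_algebraMap)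
  let g : (tst v T').left ⟶ (tst v T).left := Over.homMk (Spec.map (CommRingCat.ofHom k.toRingHom)) (by
    show Spec.map (CommRingCat.ofHom k.toRingHom) ≫ _ ≫ v = _ ≫ v
    rw [← Category.assoc, hk])
  let gg : tst v T' ⟶ tst v T := Over.homMk g (Over.OverMorphism.ext hk)
  refine (unt_rr (CommRingCat.ofHom k.toRingHom) g rfl _).symm.trans ?_
  refine congrArg unt ((ev_nat χ gg _).symm.trans (congrArg (ev χ _) ?_))
  refine (sec_unt (R := CommRingCat.of T') (rr 𝔾 g (sec (R := CommRingCat.of T) _ a))).symm.trans ?_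
  refine congrArg (sec _) ((unt_rr (CommRingCat.ofHom k.toRingHom) g rfl _).trans ?_)
  rw [unt_sec]
  rfl

theorem ext_aff (χ χ' : End' (base v))
    (h : ∀ (T : Type u) [CommRing T] [Algebra R T] (a : Tˣ), valHom v χ T a = valHom v χ' T a) : χ = χ' := by
  refine Sheaf.hom_ext (NatTrans.ext (funext fun ⟨U⟩ => AddCommGrpCat.ext fun x => ?_))
  change ev χ U x = ev χ' U x
  let κ := {A : U.left.left.Opens // IsAffineOpen A}
  let p : ∀ A : κ, Over.mk (A.2.fromSpec ≫ U.left.hom) ⟶ U.left := fun A => Over.homMk A.2.fromSpec rfl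
  refine eq_of_cover 𝔾 _ p ?_ fun A => ?_
  · refine Scheme.zariskiPrecoverage_le_fppfPrecoverage _ ?_
    rw [Scheme.zariskiPrecoverage, Scheme.ofArrows_mem_precoverage_iff]
    refine ⟨fun z => ?_, fun A => inferInstanceAs (IsOpenImmersion A.2.fromSpec)⟩
    obtain ⟨A, hA, hz, -⟩ := exists_isAffineOpen_mem_and_subset (x := z) (U := ⊤) trivial
    exact ⟨⟨A, hA⟩, by show z ∈ Set.range hA.fromSpec; rw [hA.range_fromSpec]; exact hz⟩
  · let φ : CommRingCat.of R ⟶ Γ(U.left.left, A.1) := Spec.preimage (A.2.fromSpec ≫ U.hom.left)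
    letI : Algebra R Γ(U.left.left, A.1) := φ.hom.toAlgebra
    have hφ : Spec.map (CommRingCat.ofHom (algebraMap R Γ(U.left.left, A.1))) = A.2.fromSpec ≫ U.hom.left :=
      Spec.map_preimage _
    let k : tst v Γ(U.left.left, A.1) ⟶ U := Over.homMk (Over.homMk A.2.fromSpec (by
        show A.2.fromSpec ≫ U.left.hom = _ ≫ v
        rw [hφ, Category.assoc, show U.hom.left ≫ v = U.left.hom from Over.w U.hom])) (Over.OverMorphism.ext hφ.symm)
    let l : Over.mk (A.2.fromSpec ≫ U.left.hom) ⟶ (tst v Γ(U.left.left, A.1)).left := Over.homMk (𝟙 _) (by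
        show 𝟙 _ ≫ _ ≫ v = A.2.fromSpec ≫ U.left.hom
        rw [Category.id_comp, hφ, Category.assoc, show U.hom.left ≫ v = U.left.hom from Over.w U.hom])
    have hl : l ≫ k.left = p A := Over.OverMorphism.ext (Category.id_comp _)
    rw [← hl, rr_comp, rr_comp]
    refine congrArg (rr 𝔾 l) ((ev_nat χ k x).symm.trans (Eq.trans ?_ (ev_nat χ' k x)))
    have := h Γ(U.left.left, A.1) (unt (rr 𝔾 k.left x))
    simp only [valHom, MonoidHom.mk'_apply] at this
    rw [sec_unt] at this
    exact (sec_unt _).symm.trans ((congrArg (sec _) this).trans (sec_unt _))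

theorem valHom_zsmul (n : ℤ) (T : Type u) [CommRing T] [Algebra R T] (a : Tˣ) :
    valHom v (n • 𝟙 _) T a = a ^ n := by
  let Φ : End' (base v) →+ (BigSite.sect Kf 𝔾 (tst v T).left) :=
    AddMonoidHom.mk' (fun χ => ev χ (tst v T) (sec (R := CommRingCat.of T) _ a)) (fun _ _ => rfl)
  let Ψ : BigSite.sect Kf 𝔾 (tst v T).left →+ Additive Tˣ :=
    AddMonoidHom.mk' (fun z => Additive.ofMul (unt (R := CommRingCat.of T) z))
      (fun z w => congrArg Additive.ofMul (unt_add z w))
  have h1 : Ψ (Φ (n • 𝟙 _)) = n • Ψ (Φ (𝟙 _)) := by rw [map_zsmul, map_zsmul]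
  have h2 : Ψ (Φ (𝟙 _)) = Additive.ofMul a := congrArg Additive.ofMul (unt_sec (R := CommRingCat.of T) _ a)
  rw [h2] at h1
  exact congrArg Additive.toMul h1

theorem valHom_zero (T : Type u) [CommRing T] [Algebra R T] (a : Tˣ) : valHom v 0 T a = 1 := by
  rw [← zero_zsmul (𝟙 ((CGrpSh2.Gm Kf S).over (base v))), valHom_zsmul, zpow_zero]

abbrev ofUnit {T : Type u} [CommRing T] (t : Multiplicative ℤ →* T) : Tˣ :=
  ((Group.isUnit (Multiplicative.ofAdd (1 : ℤ))).map t).unit

theorem apply_eq_zpow {T : Type u} [CommRing T] (t : Multiplicative ℤ →* T) (n : ℤ) :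
    t (Multiplicative.ofAdd n) = ((ofUnit t ^ n : Tˣ) : T) := by
  have h := t.toHomUnits.map_zpow (Multiplicative.ofAdd (1 : ℤ)) n
  rw [← ofAdd_zsmul, smul_eq_mul, mul_one] at h
  exact (congrArg Units.val h).trans (congrArg (fun w : Tˣ => ((w ^ n : Tˣ) : T)) (Units.ext rfl))

theorem ofUnit_mul {T : Type u} [CommRing T] (s t : Multiplicative ℤ →* T) : ofUnit (s * t) = ofUnit s * ofUnit t :=
  Units.ext rfl

abbrev unitHom {T : Type u} [CommRing T] (a : Tˣ) : Multiplicative ℤ →* T := (Units.coeHom T).comp (zpowersHom Tˣ a)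

theorem unitHom_mul {T : Type u} [CommRing T] (a b : Tˣ) : unitHom (a * b) = unitHom a * unitHom b :=
  MonoidHom.ext fun m => by simp [unitHom, mul_zpow]

theorem comp_unitHom {T T' : Type u} [CommRing T] [CommRing T'] (k : T →+* T') (a : Tˣ) :
    k.toMonoidHom.comp (unitHom a) = unitHom (Units.map k.toMonoidHom a) :=
  MonoidHom.ext fun m => congrArg Units.val (map_zpow (Units.map k.toMonoidHom) a m.toAdd)

theorem ofUnit_unitHom {T : Type u} [CommRing T] (a : Tˣ) : ofUnit (unitHom a) = a := Units.ext (by simp)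

end Aff

theorem eq_zsmul_of_field {K : Type u} [Field K] (v : Spec (CommRingCat.of K) ⟶ S) (χ : End' (base v)) :
    ∃ n : ℤ, χ = n • 𝟙 _ := by
  obtain ⟨θ, hθ⟩ := exists_hom_of_natural (L := K) (X := Multiplicative ℤ) (Y := Multiplicative ℤ)
    (fun T _ _ t => unitHom (valHom v χ T (ofUnit t)))
    (fun T _ _ s t => by rw [ofUnit_mul, map_mul, unitHom_mul])
    (fun T T' _ _ _ _ k t => by
      have h1 : ofUnit (k.toRingHom.toMonoidHom.comp t) = Units.map k.toRingHom.toMonoidHom (ofUnit t) := Units.ext rfl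
      rw [h1, ← valHom_nat v χ k, comp_unitHom])
  refine ⟨Multiplicative.toAdd (θ (Multiplicative.ofAdd 1)), ext_aff v _ _ fun T _ _ a => Units.ext ?_⟩
  rw [valHom_zsmul]
  have h := DFunLike.congr_fun (hθ T (unitHom a)) (Multiplicative.ofAdd 1)
  rw [ofUnit_unitHom] at h
  simpa [unitHom] using h

theorem zsmul_eq_zero {K : Type u} [Field K] (v : Spec (CommRingCat.of K) ⟶ S) (n : ℤ)
    (h : n • 𝟙 ((CGrpSh2.Gm Kf S).over (base v)) = 0) : n = 0 := by
  have h1 := valHom_zsmul v n (RatFunc K) (Units.mk0 RatFunc.X RatFunc.X_ne_zero)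
  rw [h, valHom_zero] at h1
  by_contra hn
  have h2 : (RatFunc.X : RatFunc K) ^ n = 1 := by simpa using (congrArg Units.val h1).symm
  rcases Int.natAbs_eq n with h3 | h3
  all_goals
    rw [h3] at h2
    simp only [zpow_neg, zpow_natCast, inv_eq_one] at h2
    have h4 : (algebraMap (Polynomial K) (RatFunc K)) (Polynomial.X ^ n.natAbs) = algebraMap _ _ 1 := by
      rw [map_pow, RatFunc.algebraMap_X, map_one, h2]
    have h5 := congrArg Polynomial.natDegree (RatFunc.algebraMap_injective K h4)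
    simp at h5
    omega

theorem eq_zero_of_residueFields {R : Type u} [CommRing R] (v : Spec (CommRingCat.of R) ⟶ S) (χ : End' (base v))
    (h : ∀ (P : Ideal R) [P.IsPrime],
      resE (Over.homMk (U := base (Spec.map (CommRingCat.ofHom (algebraMap R P.ResidueField)) ≫ v)) (V := base v)
        (Spec.map (CommRingCat.ofHom (algebraMap R P.ResidueField))) rfl) χ = 0) : χ = 0 := by
  let E : CharEnd R (Multiplicative ℤ) :=
    { F := fun T _ _ t => unitHom (valHom v χ T (ofUnit t) * ofUnit t)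
      map_mul := fun T _ _ s t => by
        rw [ofUnit_mul, map_mul, mul_mul_mul_comm, unitHom_mul]
      natural := fun T T' _ _ _ _ k t => by
        have h1 : ofUnit (k.toRingHom.toMonoidHom.comp t) = Units.map k.toRingHom.toMonoidHom (ofUnit t) := Units.ext rfl
        rw [h1, ← valHom_nat v χ k, ← map_mul, comp_unitHom] }
  have hid := E.eq_id (fun P _ T _ _ _ _ t => by
    have h0 : valHom v χ T (ofUnit t) = 1 := by
      let w := Spec.map (CommRingCat.ofHom (algebraMap R P.ResidueField)) ≫ v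
      let j : base w ⟶ base v := Over.homMk (Spec.map (CommRingCat.ofHom (algebraMap R P.ResidueField))) rfl
      have hc : Spec.map (CommRingCat.ofHom (algebraMap P.ResidueField T)) ≫
          Spec.map (CommRingCat.ofHom (algebraMap R P.ResidueField)) = Spec.map (CommRingCat.ofHom (algebraMap R T)) := by
        rw [← Spec.map_comp]
        exact congrArg Spec.map (CommRingCat.hom_ext (IsScalarTower.algebraMap_eq R P.ResidueField T).symm)
      let g : (tst w T).left ⟶ (tst v T).left := Over.homMk (𝟙 _) (by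
        show 𝟙 _ ≫ _ ≫ v = _ ≫ _ ≫ v
        rw [Category.id_comp, ← hc, Category.assoc])
      let gg : (Over.map j).obj (tst w T) ⟶ tst v T := Over.homMk g (Over.OverMorphism.ext (by
        show 𝟙 _ ≫ _ = _
        rw [Category.id_comp]; exact hc.symm))
      refine Units.ext ?_
      have h1 := ev_nat χ gg (sec (R := CommRingCat.of T) _ (ofUnit t))
      rw [← ev_resE j χ, h P] at h1
      have hid : ∀ z : BigSite.sect Kf 𝔾 (tst v T).left, fn (rr 𝔾 g z) = fn z := fun z => by
        refine (fn_rr g z).trans ?_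
        exact congrArg (fun q : Γ(Spec (CommRingCat.of T), ⊤) ⟶ Γ(Spec (CommRingCat.of T), ⊤) => q (fn z))
          (Scheme.Hom.id_appTop (X := Spec (CommRingCat.of T)))
      have h2 : fn (0 : BigSite.sect Kf 𝔾 (tst w T).left) = fn (ev χ (tst v T) (sec (R := CommRingCat.of T) _ (ofUnit t))) :=
        (congrArg fn h1).trans (hid _)
      show (Scheme.ΓSpecIso (CommRingCat.of T)).hom (fn (ev χ (tst v T) (sec (R := CommRingCat.of T) _ (ofUnit t)))) = 1
      refine (congrArg (Scheme.ΓSpecIso (CommRingCat.of T)).hom (h2.symm.trans (fn_zero _))).trans (map_one _)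
    show unitHom (valHom v χ T (ofUnit t) * ofUnit t) = t
    rw [h0, one_mul]
    refine MonoidHom.ext fun m => ?_
    obtain ⟨n, rfl⟩ : ∃ n : ℤ, Multiplicative.ofAdd n = m := ⟨m.toAdd, rfl⟩
    exact (congrArg Units.val (by simp)).trans (apply_eq_zpow t n).symm)
  refine ext_aff v _ _ fun T _ _ a => ?_
  rw [valHom_zero]
  have h1 := DFunLike.congr_fun (hid T (unitHom a)) (Multiplicative.ofAdd 1)
  simp only [E, ofUnit_unitHom] at h1
  have h2 : valHom v χ T a * a = a := Units.ext (by simpa [unitHom] using h1)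
  exact mul_eq_right.1 h2

end Groth.Agent.DualNorm68
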