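import Groth.Agent.DualNorm68.Main
import Mathlib.RingTheory.TotallySplit
import Mathlib.AlgebraicGeometry.Pullbacks

/-! A finite étale morphism splits into sections fppf-locally on the big site. -/

set_option autoImplicit false
set_option linter.unusedSectionVars false
set_option linter.style.haveILetI false
set_option backward.isDefEq.respectTransparency false
set_option backward.isDefEq.respectTransparency.types false

universe u

open CategoryTheory CategoryTheory.Limits AlgebraicGeometry Opposite TopologicalSpace TensorProduct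
open Groth.Agent.NormMap87

noncomputable section

namespace Groth.Agent.DualNorm68

local notation "Kf" => Scheme.fppfPrecoverage

variable {X X' : Scheme.{u}} (f : X' ⟶ X) [IsFinite f] [Etale f]

theorem exists_split_affine (U : Over X) [IsAffine U.left] {n : ℕ} (hn : ∀ y, (proj f U).finrank y = n) :
    ∃ (V : Over X) (p : V ⟶ U), Flat p.left ∧ LocallyOfFinitePresentation p.left ∧ Surjective p.left ∧
      ∃ (m : ℕ) (σ : Fin m → (V.left ⟶ ((Over.pullback f).obj V).left)),
        (∀ a, σ a ≫ proj f V = 𝟙 _) ∧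
        (∀ a b, a ≠ b → ∀ v w, (σ a).base v ≠ (σ b).base w) ∧
        ∀ z, ∃ a, z ∈ Set.range (σ a).base := by
  haveI : Etale (proj f U) := inferInstanceAs (Etale (pullback.fst U.hom f))
  haveI : IsAffine ((Over.pullback f).obj U).left := isAffine_of_isAffineHom (proj f U)
  let R : CommRingCat.{u} := Γ(U.left, ⊤)
  let B : CommRingCat.{u} := Γ(((Over.pullback f).obj U).left, (proj f U) ⁻¹ᵁ ⊤)
  let φ : R ⟶ B := (proj f U).appLE ⊤ ((proj f U) ⁻¹ᵁ ⊤) le_rfl
  have hφ : φ = (proj f U).appTop := by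
    show (proj f U).appLE ⊤ ((proj f U) ⁻¹ᵁ ⊤) le_rfl = _
    rw [Scheme.Hom.appLE_eq_app]
  letI : Algebra R B := φ.hom.toAlgebra
  haveI : Algebra.Etale R B := HasRingHomProperty.appLE @Etale (proj f U) inferInstance ⟨⊤, isAffineOpen_top _⟩
      ⟨_, (isAffineOpen_top U.left).preimage (proj f U)⟩ le_rfl
  haveI : Module.Finite R B := by
    have : φ.hom.Finite := by rw [hφ]; exact (proj f U).finite_app ⊤ (isAffineOpen_top _)
    exact this
  have hr : Module.rankAtStalk (R := R) B = n := funext fun q =>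
    NormFLF.rankAtStalk_eq (proj f U) hn (isAffineOpen_top U.left) q
  obtain ⟨T, _, _, _, _, _, hT⟩ := Algebra.IsFiniteSplit.exists_tensorProduct_of_etale (R := R) (S := B) hr
  obtain ⟨m, ⟨e⟩⟩ := hT.nonempty_algEquiv_fun
  let ψ : R ⟶ CommRingCat.of T := CommRingCat.ofHom (algebraMap R T)
  let p₀ : Spec (CommRingCat.of T) ⟶ U.left := Spec.map ψ ≫ U.left.isoSpec.inv
  let V : Over X := Over.mk (p₀ ≫ U.hom)
  let p : V ⟶ U := Over.homMk p₀ rfl
  haveI : Etale (Spec.map ψ) := by
    rw [HasRingHomProperty.Spec_iff (P := @Etale)]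
    exact RingHom.etale_algebraMap.mpr ‹_›
  haveI : Etale p₀ := inferInstanceAs (Etale (Spec.map ψ ≫ U.left.isoSpec.inv))
  haveI : Surjective (Spec.map ψ) :=
    ⟨PrimeSpectrum.comap_surjective_of_faithfullyFlat (A := R) (B := T)⟩
  refine ⟨V, p, inferInstanceAs (Flat p₀), inferInstanceAs (LocallyOfFinitePresentation p₀),
    inferInstanceAs (Surjective (Spec.map ψ ≫ U.left.isoSpec.inv)), m, ?_⟩
  have h0 := isPullback_SpecMap_of_isPushout φ ψ _ _ (CommRingCat.isPushout_tensorProduct R T B).flip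
  have hnat : Spec.map φ ≫ U.left.isoSpec.inv =
      ((Over.pullback f).obj U).left.isoSpec.inv ≫ proj f U := by
    rw [hφ]; exact Scheme.isoSpec_inv_naturality (proj f U)
  have h1 : IsPullback (Spec.map (CommRingCat.ofHom (Algebra.TensorProduct.includeRight (R := R) (A := T) (B := B)).toRingHom) ≫
        ((Over.pullback f).obj U).left.isoSpec.inv)
      (Spec.map (CommRingCat.ofHom (Algebra.TensorProduct.includeLeftRingHom (R := R) (A := T) (B := B)))) (proj f U) p₀ :=
    h0.of_iso (Iso.refl _) ((Over.pullback f).obj U).left.isoSpec.symm (Iso.refl _) U.left.isoSpec.symm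
      (by simp) (by simp) (by simpa using hnat) (by simp; rfl)
  let Φ := IsPullback.isoIsPullback _ _ h1 (isPullback_map f p)
  let Ψ : Spec (CommRingCat.of (Fin m → T)) ⟶ ((Over.pullback f).obj V).left :=
    Spec.map (CommRingCat.ofHom e.toRingEquiv.toRingHom) ≫ Φ.hom
  haveI : IsIso (CommRingCat.ofHom e.toRingEquiv.toRingHom) := e.toRingEquiv.toCommRingCatIso.isIso_hom
  haveI : IsIso Ψ := inferInstanceAs (IsIso (Spec.map (CommRingCat.ofHom e.toRingEquiv.toRingHom) ≫ Φ.hom))
  have hΨ : Ψ ≫ proj f V = Spec.map (CommRingCat.ofHom (algebraMap T (Fin m → T))) := by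
    show (Spec.map (CommRingCat.ofHom e.toRingEquiv.toRingHom) ≫ Φ.hom) ≫ proj f V = _
    rw [Category.assoc]
    refine (congrArg (Spec.map _ ≫ ·) (IsPullback.isoIsPullback_hom_snd _ _ h1 (isPullback_map f p))).trans ?_
    rw [← Spec.map_comp]
    congr 1
    ext t : 2
    exact e.commutes t
  let ev : Fin m → (Spec (CommRingCat.of T) ⟶ Spec (CommRingCat.of (Fin m → T))) := fun a =>
    Spec.map (CommRingCat.ofHom (Pi.evalRingHom (fun _ : Fin m => T) a))
  refine ⟨fun a => ev a ≫ Ψ, fun a => ?_, fun a b hab v w h => ?_, fun z => ?_⟩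
  · rw [Category.assoc, hΨ, ← Spec.map_comp]
    exact (congrArg Spec.map (by ext t : 2; rfl)).trans (Spec.map_id _)
  · classical
    have h' : (ev a).base v = (ev b).base w := Ψ.homeomorph.injective h
    have h'' : v.asIdeal.comap (Pi.evalRingHom (fun _ : Fin m => T) a) =
        w.asIdeal.comap (Pi.evalRingHom (fun _ : Fin m => T) b) := congrArg PrimeSpectrum.asIdeal h'
    have hm : (Pi.single a 1 : Fin m → T) ∈ w.asIdeal.comap (Pi.evalRingHom (fun _ : Fin m => T) b) := by
      simp [Ideal.mem_comap, Pi.single_eq_of_ne hab.symm]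
    rw [← h''] at hm
    simp only [Ideal.mem_comap, Pi.evalRingHom_apply, Pi.single_eq_same] at hm
    exact v.isPrime.ne_top ((Ideal.eq_top_iff_one _).2 hm)
  · obtain ⟨x, rfl⟩ := Ψ.homeomorph.surjective z
    obtain ⟨a, q, hq⟩ := PrimeSpectrum.exists_comap_evalRingHom_eq (R := fun _ : Fin m => T) x
    exact ⟨a, q, congrArg Ψ.base hq⟩

theorem hasSplit : HasSplit f := by
  intro U
  haveI : Etale (proj f U) := inferInstanceAs (Etale (pullback.fst U.hom f))
  have hlc := (proj f U).isLocallyConstant_finrank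
  have key : ∀ u : U.left, ∃ (V : Over X) (p : V ⟶ U), Flat p.left ∧ LocallyOfFinitePresentation p.left ∧
      u ∈ Set.range p.left.base ∧ ∃ (m : ℕ) (σ : Fin m → (V.left ⟶ ((Over.pullback f).obj V).left)),
        (∀ a, σ a ≫ proj f V = 𝟙 _) ∧
        (∀ a b, a ≠ b → ∀ v w, (σ a).base v ≠ (σ b).base w) ∧
        ∀ z, ∃ a, z ∈ Set.range (σ a).base := by
    intro u
    obtain ⟨A, hA, huA, hAO⟩ := exists_isAffineOpen_mem_and_subset (x := u)
      (U := ⟨{y | (proj f U).finrank y = (proj f U).finrank u}, hlc {(proj f U).finrank u}⟩) rfl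
    let UA : Over X := Over.mk (A.ι ≫ U.hom)
    let g : UA ⟶ U := Over.homMk A.ι rfl
    haveI : IsAffine UA.left := hA
    obtain ⟨V, p, hf, hl, hs, hσ⟩ := exists_split_affine f UA (n := (proj f U).finrank u) (fun y => by
      rw [Scheme.Hom.finrank_of_isPullback _ _ _ _ (isPullback_map f g) y]
      exact hAO y.2)
    refine ⟨V, p ≫ g, ?_, ?_, ?_, hσ⟩
    · haveI := hf
      exact inferInstanceAs (Flat (p.left ≫ A.ι))
    · haveI := hl
      exact inferInstanceAs (LocallyOfFinitePresentation (p.left ≫ A.ι))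
    · obtain ⟨v, hv⟩ := hs.surj ⟨u, huA⟩
      exact ⟨v, congrArg A.ι.base hv⟩
  choose V p hf hl hu hσ using key
  refine ⟨U.left, V, p, ?_, hσ⟩
  change _ ∈ Scheme.precoverage _ _
  rw [Scheme.ofArrows_mem_precoverage_iff]
  exact ⟨fun u => ⟨u, hu u⟩, fun u => ⟨hf u, hl u⟩⟩

end Groth.Agent.DualNorm68
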