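import Groth.Agent.DualNorm68.Lift
import Groth.Agent.DualNorm68.Pow
import Groth.Agent.DualNorm68.Split
import Groth.Agent.GaExt87.HomEdge
import Groth.Agent.BigBC.Rpush
import Mathlib.FieldTheory.IsAlgClosed.AlgebraicClosure
import Mathlib.FieldTheory.Normal.Basic
import Mathlib.RingTheory.Etale.Field

/-! `H¹(k, f_* 𝓗om(𝔾_m, 𝔾_m)) = 0` for a field. -/

set_option autoImplicit false
set_option linter.unusedSectionVars false
set_option linter.style.haveILetI false
set_option backward.isDefEq.respectTransparency false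
set_option backward.isDefEq.respectTransparency.types false

universe u

open CategoryTheory CategoryTheory.Limits AlgebraicGeometry Opposite Abelian
open Groth.Agent.GaExt87
open scoped TensorProduct

noncomputable section

namespace Groth.Agent.DualNorm68

local notation "Kf" => Scheme.fppfPrecoverage

theorem exists_shift {k L : Type u} [Field k] [Field L] [Algebra k L] [FiniteDimensional k L]
    (p q : L →ₐ[k] AlgebraicClosure k) :
    ∃ σ : AlgebraicClosure k →ₐ[k] AlgebraicClosure k, σ.comp p = q := by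
  letI : Algebra L (AlgebraicClosure k) := p.toRingHom.toAlgebra
  haveI : IsScalarTower k L (AlgebraicClosure k) := IsScalarTower.of_algebraMap_eq fun x => (p.commutes x).symm
  exact ⟨q.liftNormal (AlgebraicClosure k), AlgHom.ext fun x => q.liftNormal_commutes (AlgebraicClosure k) x⟩

section Id

variable {S : Scheme.{u}}

/-- the identity as a section -/
def idE (V : Over S) : BigSite.sect Kf (CGrpSh2.dualSh Kf (CGrpSh2.Gm Kf S)) V := 𝟙 ((CGrpSh2.Gm Kf S).over V)

theorem rr_zsmul_idE {V V' : Over S} (g : V' ⟶ V) (n : ℤ) :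
    rr (CGrpSh2.dualSh Kf (CGrpSh2.Gm Kf S)) g (n • idE V) = n • idE V' := by
  refine (map_zsmul (rr (CGrpSh2.dualSh Kf (CGrpSh2.Gm Kf S)) g) n _).trans (congrArg (n • ·) ?_)
  exact Sheaf.hom_ext (NatTrans.ext (funext fun U => AddCommGrpCat.ext fun x => rfl))

theorem exists_eq_zsmul_idE {K : Type u} [Field K] (v : Spec (CommRingCat.of K) ⟶ S)
    (z : BigSite.sect Kf (CGrpSh2.dualSh Kf (CGrpSh2.Gm Kf S)) (base v)) : ∃ n : ℤ, z = n • idE (base v) :=
  eq_zsmul_of_field v z

theorem zsmul_idE_eq_zero {K : Type u} [Field K] (v : Spec (CommRingCat.of K) ⟶ S) (n : ℤ)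
    (h : n • idE (base v) = 0) : n = 0 := zsmul_eq_zero v n h

theorem eq_zero_of_residue {R : Type u} [CommRing R] (v : Spec (CommRingCat.of R) ⟶ S)
    (z : BigSite.sect Kf (CGrpSh2.dualSh Kf (CGrpSh2.Gm Kf S)) (base v))
    (h : ∀ (P : Ideal R) [P.IsPrime],
      rr (CGrpSh2.dualSh Kf (CGrpSh2.Gm Kf S))
        (Over.homMk (U := base (Spec.map (CommRingCat.ofHom (algebraMap R P.ResidueField)) ≫ v)) (V := base v)
          (Spec.map (CommRingCat.ofHom (algebraMap R P.ResidueField))) rfl) z = 0) : z = 0 :=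
  eq_zero_of_residueFields v z h

end Id

section Field

variable {k' : Type u} [Field k']

local notation "S'" => Spec (CommRingCat.of k')
local notation "Ĝ" => CGrpSh2.dualSh Kf (CGrpSh2.Gm Kf (Spec (CommRingCat.of k')))

abbrev ob (B : Type u) [CommRing B] [Algebra k' B] : Over (Spec (CommRingCat.of k')) :=
  Over.mk (Spec.map (CommRingCat.ofHom (algebraMap k' B)) ≫ 𝟙 _)

abbrev obMap {B C : Type u} [CommRing B] [Algebra k' B] [CommRing C] [Algebra k' C] (g : B →ₐ[k'] C) :
    ob (k' := k') C ⟶ ob B :=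
  Over.homMk (Spec.map (CommRingCat.ofHom g.toRingHom)) (by
    show _ ≫ _ ≫ 𝟙 _ = _ ≫ 𝟙 _
    rw [Category.comp_id, Category.comp_id, ← Spec.map_comp]
    exact congrArg Spec.map (CommRingCat.hom_ext g.comp_algebraMap))

theorem rr_obMap {F : BigSite.Ab Kf S'} {B C D : Type u} [CommRing B] [Algebra k' B] [CommRing C] [Algebra k' C]
    [CommRing D] [Algebra k' D] (g : B →ₐ[k'] C) (h : C →ₐ[k'] D) (x : BigSite.sect Kf F (ob B)) :
    rr F (obMap h) (rr F (obMap g) x) = rr F (obMap (h.comp g)) x := by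
  rw [← rr_comp]
  refine congrArg (fun m => rr F m x) (Over.OverMorphism.ext ?_)
  show Spec.map _ ≫ Spec.map _ = Spec.map _
  rw [← Spec.map_comp]; rfl

theorem pair_zero {L : Type u} [Field L] [Algebra k' L] [FiniteDimensional k' L]
    (c : BigSite.sect Kf Ĝ (ob (L ⊗[k'] L)))
    (C : (L →ₐ[k'] AlgebraicClosure k') → (L →ₐ[k'] AlgebraicClosure k') → BigSite.sect Kf Ĝ (ob (AlgebraicClosure k')))
    (hC : ∀ p q, C p q = rr Ĝ (obMap (Algebra.TensorProduct.productMap p q)) c)
    (hadd : ∀ p q r, C p q + C q r = C p r) (p q : L →ₐ[k'] AlgebraicClosure k') : C p q = 0 := by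
  obtain ⟨σ, rfl⟩ := exists_shift p q
  obtain ⟨n, hn⟩ := exists_eq_zsmul_idE _ (C p (σ.comp p))
  have hinj : Function.Injective (fun r : L →ₐ[k'] AlgebraicClosure k' => σ.comp r) :=
    fun r r' h => AlgHom.ext fun x => σ.toRingHom.injective (AlgHom.congr_fun h x)
  obtain ⟨N, hN, hper⟩ := Function.mem_periodicPts.1 (hinj.mem_periodicPts p)
  let s : ℕ → (L →ₐ[k'] AlgebraicClosure k') := fun i => (fun r => σ.comp r)^[i] p
  have hs : ∀ j, s (j + 1) = σ.comp (s j) := fun j => Function.iterate_succ_apply' _ j p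
  have hstep : ∀ i, C (s i) (s (i + 1)) = n • idE _ := by
    intro i
    induction i with
    | zero => exact hn
    | succ i ih =>
      have e : Algebra.TensorProduct.productMap (s (i + 1)) (s (i + 1 + 1)) =
          σ.comp (Algebra.TensorProduct.productMap (s i) (s (i + 1))) :=
        Algebra.TensorProduct.ext (AlgHom.ext fun x => by simp [hs]) (AlgHom.ext fun x => by simp [hs])
      refine (hC _ _).trans ((congrArg (fun g => rr Ĝ (obMap g) c) e).trans ?_)
      refine ((rr_obMap _ σ c).symm.trans (congrArg (rr Ĝ (obMap σ)) ((hC _ _).symm.trans ih))).trans ?_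
      exact rr_zsmul_idE (obMap σ) n
  have hpp : C p p = 0 := add_eq_left.1 (hadd p p p)
  have htel : ∀ i, C p (s i) = (i : ℤ) • (n • idE _) := by
    intro i
    induction i with
    | zero => exact hpp.trans (by rw [Nat.cast_zero, zero_smul])
    | succ i ih => rw [← hadd p (s i), ih, hstep, Nat.cast_succ, add_smul, one_smul]
  have h0 := htel N
  rw [show s N = p from hper, hpp, ← mul_smul] at h0
  rcases mul_eq_zero.1 (zsmul_idE_eq_zero _ _ h0.symm) with h | h
  · exact absurd (Nat.cast_eq_zero.1 h) hN.ne'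
  · rw [hn, h, zero_smul]

theorem rr_eq_zero_of_field {B F : Type u} [CommRing B] [Algebra k' B] [Field F] [Algebra k' F]
    (g : B →ₐ[k'] F) (ι' : F →ₐ[k'] AlgebraicClosure k') (c : BigSite.sect Kf Ĝ (ob B))
    (h : rr Ĝ (obMap (ι'.comp g)) c = 0) : rr Ĝ (obMap g) c = 0 := by
  obtain ⟨n, hn⟩ := exists_eq_zsmul_idE _ (rr Ĝ (obMap g) c)
  have h2 := (rr_obMap g ι' c).trans h
  have h3 : n • idE (ob (k' := k') (AlgebraicClosure k')) = 0 :=
    (rr_zsmul_idE (obMap ι') n).symm.trans ((congrArg (rr Ĝ (obMap ι')) hn).symm.trans h2)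
  rw [hn, zsmul_idE_eq_zero _ n h3, zero_smul]

theorem rr_base_eq_zero {B F : Type u} [CommRing B] [Algebra k' B] [CommRing F] [Algebra k' F] [Algebra B F]
    [IsScalarTower k' B F] (c : BigSite.sect Kf Ĝ (ob B))
    (h : rr Ĝ (obMap (IsScalarTower.toAlgHom k' B F)) c = 0) :
    rr Ĝ (Over.homMk (U := base (Spec.map (CommRingCat.ofHom (algebraMap B F)) ≫ (ob (k' := k') B).hom))
      (V := ob B) (Spec.map (CommRingCat.ofHom (algebraMap B F))) rfl) c = 0 := by
  let i : base (Spec.map (CommRingCat.ofHom (algebraMap B F)) ≫ (ob (k' := k') B).hom) ⟶ ob F :=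
    Over.homMk (𝟙 _) (by
      show 𝟙 _ ≫ _ ≫ 𝟙 _ = _ ≫ _ ≫ 𝟙 _
      rw [Category.id_comp, Category.comp_id, Category.comp_id, ← Spec.map_comp]
      exact congrArg Spec.map (CommRingCat.hom_ext (IsScalarTower.algebraMap_eq k' B F)))
  have e : i ≫ obMap (IsScalarTower.toAlgHom k' B F) = Over.homMk (Spec.map (CommRingCat.ofHom (algebraMap B F))) rfl :=
    Over.OverMorphism.ext (Category.id_comp _)
  rw [← e, rr_comp, h, map_zero]

theorem eq_zero_of_pairs {B : Type u} [CommRing B] [Algebra k' B] [Module.Finite k' B]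
    (c : BigSite.sect Kf Ĝ (ob B)) (h : ∀ g : B →ₐ[k'] AlgebraicClosure k', rr Ĝ (obMap g) c = 0) : c = 0 := by
  haveI : IsArtinianRing B := IsArtinianRing.of_finite k' B
  refine eq_zero_of_residue _ c fun P hP => ?_
  haveI : P.IsMaximal := IsArtinianRing.isMaximal_of_isPrime P
  haveI : Module.Finite k' P.ResidueField := Module.Finite.of_surjective
    ((IsScalarTower.toAlgHom k' B P.ResidueField).toLinearMap) P.algebraMap_residueField_surjective
  exact rr_base_eq_zero c (rr_eq_zero_of_field _ IsAlgClosed.lift c (h _))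

variable {I Q : BigSite.Ab Kf (Spec (CommRingCat.of k'))} {em : CGrpSh2.dualSh Kf (CGrpSh2.Gm Kf (Spec (CommRingCat.of k'))) ⟶ I} {π : I ⟶ Q} {w : em ≫ π = 0}

theorem exists_em (hS : (ShortComplex.mk em π w).ShortExact) {W : Over S'} (x : BigSite.sect Kf I W)
    (hx : sap π W x = 0) : ∃ a, sap em W a = x := by
  have := hS.mono_f
  let Φ : BigSite.Ab Kf S' ⥤ AddCommGrpCat.{u + 1} := sheafToPresheaf _ _ ⋙ (evaluation _ _).obj (op W)
  have : PreservesFiniteLimits Φ := comp_preservesFiniteLimits _ _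
  have : Mono (Φ.map (ShortComplex.mk em π w).f) := inferInstance
  have h1 := ((ShortComplex.mk em π w).map Φ).exact_of_f_is_kernel
    (KernelFork.mapIsLimit _ hS.exact.fIsKernel Φ)
  rw [ShortComplex.ab_exact_iff] at h1
  exact h1 x hx

theorem sap_injective (hS : (ShortComplex.mk em π w).ShortExact) (W : Over S') : Function.Injective (sap em W) := by
  haveI := hS.mono_f
  let Φ : BigSite.Ab Kf S' ⥤ AddCommGrpCat.{u + 1} := sheafToPresheaf _ _ ⋙ (evaluation _ _).obj (op W)
  have : PreservesFiniteLimits Φ := comp_preservesFiniteLimits _ _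
  have : Mono (Φ.map (ShortComplex.mk em π w).f) := inferInstance
  exact (AddCommGrpCat.mono_iff_injective _).1 this

theorem exists_lift_field (hS : (ShortComplex.mk em π w).ShortExact)
    (s : BigSite.sect Kf Q (Over.mk (𝟙 S'))) : ∃ t, sap π (Over.mk (𝟙 S')) t = s := by
  have hπ : Sheaf.IsLocallySurjective π :=
    (Sheaf.isLocallySurjective_iff_epi' _ _).2 hS.epi_g
  obtain ⟨B, _, _, hff, hfp, y, hy⟩ := exists_lift_algebra (A := k') (𝟙 S') hπ s
  haveI := hff
  haveI : Nontrivial B := (PrimeSpectrum.nonempty_iff_nontrivial (R := B)).1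
    ⟨(PrimeSpectrum.comap_surjective_of_faithfullyFlat (A := k') (B := B)
      (Classical.choice inferInstance)).choose⟩
  obtain ⟨m, hm⟩ := Ideal.exists_maximal B
  haveI := hm
  let L := B ⧸ m
  letI : Field L := Ideal.Quotient.field m
  haveI : Algebra.FiniteType k' B := inferInstance
  haveI : Module.Finite k' L := finite_of_finite_type_of_isJacobsonRing k' L
  let q : B →ₐ[k'] L := Ideal.Quotient.mkₐ k' m
  let top : ∀ (C : Type u) [CommRing C] [Algebra k' C], ob (k' := k') C ⟶ Over.mk (𝟙 S') := fun C _ _ =>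
    Over.homMk (Spec.map (CommRingCat.ofHom (algebraMap k' C))) rfl
  have huniq : ∀ {U : Over S'} (a b : U ⟶ Over.mk (𝟙 S')), a = b := fun a b => Over.OverMorphism.ext
    ((Category.comp_id a.left).symm.trans ((Over.w a).trans ((Over.w b).symm.trans (Category.comp_id b.left))))
  obtain ⟨x, hx⟩ : ∃ x : BigSite.sect Kf I (ob L), sap π _ x = rr Q (top L) s := ⟨rr I (obMap q) y, by
    rw [sap_rr, hy, ← rr_comp]
    exact congrArg (fun g => rr Q g s) (huniq _ _)⟩
  let iL : L →ₐ[k'] L ⊗[k'] L := Algebra.TensorProduct.includeLeft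
  let iR : L →ₐ[k'] L ⊗[k'] L := Algebra.TensorProduct.includeRight
  obtain ⟨c, hc⟩ := exists_em hS (rr I (obMap iL) x - rr I (obMap iR) x) (by
    rw [map_sub, sap_rr, sap_rr, hx, ← rr_comp, ← rr_comp, sub_eq_zero]
    exact congrArg (fun g => rr Q g s) (huniq _ _))
  let C : (L →ₐ[k'] AlgebraicClosure k') → (L →ₐ[k'] AlgebraicClosure k') → BigSite.sect Kf Ĝ (ob (AlgebraicClosure k')) :=
    fun a b => rr Ĝ (obMap (Algebra.TensorProduct.productMap a b)) c
  have hem : ∀ a b, sap em _ (C a b) = rr I (obMap a) x - rr I (obMap b) x := fun a b => by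
    rw [sap_rr, hc, map_sub, rr_obMap, rr_obMap]
    simp only [iL, iR, Algebra.TensorProduct.productMap_left, Algebra.TensorProduct.productMap_right]
  have hc0 : c = 0 := eq_zero_of_pairs c fun g => by
    have h1 := pair_zero c C (fun _ _ => rfl) (fun a b d => sap_injective hS _ (by
      rw [map_add, hem, hem, hem]; abel)) (g.comp iL) (g.comp iR)
    have e : Algebra.TensorProduct.productMap (g.comp iL) (g.comp iR) = g :=
      Algebra.TensorProduct.ext (AlgHom.ext fun z => by simp [iL]) (AlgHom.ext fun z => by simp [iR])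
    simpa only [C, e] using h1
  rw [hc0, map_zero, eq_comm, sub_eq_zero] at hc
  have hsq : IsPullback (obMap iL).left (obMap iR).left (top L).left (top L).left := by
    refine (isPullback_SpecMap_of_isPushout _ _ _ _ (CommRingCat.isPushout_tensorProduct k' L L))
  haveI : Module.FaithfullyFlat k' L := inferInstance
  obtain ⟨t, ht⟩ := exists_glue_of_isPullback I (em := PUnit.{u + 1}) (fun _ => ob L) (fun _ => top L) (by
      change _ ∈ Scheme.precoverage _ _
      rw [Scheme.ofArrows_mem_precoverage_iff]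
      refine ⟨fun z => ?_, fun _ => ⟨?_, ?_⟩⟩
      · obtain ⟨z', hz⟩ := PrimeSpectrum.comap_surjective_of_faithfullyFlat (A := k') (B := L) z
        exact ⟨PUnit.unit, z', hz⟩
      · show Flat (Spec.map _)
        rw [HasRingHomProperty.Spec_iff (P := @Flat)]
        exact RingHom.flat_algebraMap_iff.2 inferInstance
      · show LocallyOfFinitePresentation (Spec.map _)
        rw [HasRingHomProperty.Spec_iff (P := @LocallyOfFinitePresentation)]
        exact RingHom.finitePresentation_algebraMap.2 (Algebra.FinitePresentation.of_finiteType.mp inferInstance))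
    (fun _ _ => ob (L ⊗[k'] L)) (fun _ _ => obMap iL) (fun _ _ => obMap iR) (fun _ _ => hsq) (fun _ => x)
    (fun _ _ => hc)
  refine ⟨t, eq_of_cover Q (em := PUnit.{u + 1}) (fun _ => ob L) (fun _ => top L) ?_ fun i => ?_⟩
  · change _ ∈ Scheme.precoverage _ _
    rw [Scheme.ofArrows_mem_precoverage_iff]
    refine ⟨fun z => ?_, fun _ => ⟨?_, ?_⟩⟩
    · obtain ⟨z', hz⟩ := PrimeSpectrum.comap_surjective_of_faithfullyFlat (A := k') (B := L) z
      exact ⟨PUnit.unit, z', hz⟩
    · show Flat (Spec.map _)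
      rw [HasRingHomProperty.Spec_iff (P := @Flat)]
      exact RingHom.flat_algebraMap_iff.2 inferInstance
    · show LocallyOfFinitePresentation (Spec.map _)
      rw [HasRingHomProperty.Spec_iff (P := @LocallyOfFinitePresentation)]
      exact RingHom.finitePresentation_algebraMap.2 (Algebra.FinitePresentation.of_finiteType.mp inferInstance)
  · rw [← sap_rr, ht i, hx]

end Field

theorem subsingleton_H_one (k k' : Type u) [Field k] [Field k'] [Algebra k k']
    [FiniteDimensional k k'] [Algebra.IsSeparable k k'] :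
    Subsingleton (BigSite.H Kf (Spec (CommRingCat.of k)) (CGrpSh2.dualSh Kf
      ((BigSite.pushBig Kf (Spec.map (CommRingCat.ofHom (algebraMap k k'))) AddCommGrpCat.{u+1}).obj
        (CGrpSh2.Gm Kf (Spec (CommRingCat.of k'))))) 1) := by
  let f := Spec.map (CommRingCat.ofHom (algebraMap k k'))
  haveI : IsFinite f := by
    rw [IsFinite.SpecMap_iff]
    exact RingHom.finite_algebraMap.2 inferInstance
  haveI : Etale f := by
    rw [HasRingHomProperty.Spec_iff (P := @Etale)]
    haveI : Algebra.FormallyEtale k k' := Algebra.FormallyEtale.of_isSeparable k k'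
    haveI : Algebra.FinitePresentation k k' := Algebra.FinitePresentation.of_finiteType.mp inferInstance
    exact RingHom.etale_algebraMap.2 ({ } : Algebra.Etale k k')
  let S₀ := Spec (CommRingCat.of k)
  let P := BigSite.pushBig Kf f AddCommGrpCat.{u + 1}
  let G := CGrpSh2.dualSh Kf (CGrpSh2.Gm Kf (Spec (CommRingCat.of k')))
  haveI : IsIso (CGrpSh3.dualNormMap Kf f (Groth.Agent.NormMap87.normMap f Kf) (CGrpSh2.Gm Kf (Spec (CommRingCat.of k')))) :=
    isIso_dualNormMap (Groth.Agent.NormMap87.isNormMap_normMap f Kf) (hasSplit f)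
  let adj := BigSite.bigAdj Kf f AddCommGrpCat.{u + 1}
  haveI : PreservesFiniteLimits P := by
    have : PreservesLimitsOfSize.{0, 0} P := adj.rightAdjoint_preservesLimits
    exact PreservesLimitsOfSize.preservesFiniteLimits _
  haveI : (BigSite.pullBig Kf f AddCommGrpCat.{u + 1}).PreservesMonomorphisms := inferInstance
  haveI : P.PreservesInjectiveObjects :=
    Functor.preservesInjectiveObjects_of_adjunction_of_preservesMonomorphisms adj
  let em : G ⟶ Injective.under G := Injective.ι G
  let π := cokernel.π em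
  have hS : (ShortComplex.mk em π (cokernel.condition em)).ShortExact :=
    { exact := ShortComplex.exact_cokernel _ }
  let π' := cokernel.π (P.map em)
  have hS' : (ShortComplex.mk (P.map em) π' (cokernel.condition (P.map em))).ShortExact :=
    { exact := ShortComplex.exact_cokernel _, mono_f := inferInstance }
  let c : cokernel (P.map em) ⟶ P.obj (cokernel em) :=
    cokernel.desc (P.map em) (P.map π) (by rw [← P.map_comp, cokernel.condition, P.map_zero])
  have hc : Mono c := by
    have hSe : ((ShortComplex.mk em π (cokernel.condition em)).map P).Exact :=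
      hS.exact.map_of_mono_of_preservesKernel P inferInstance inferInstance
    exact hSe.mono_cokernelDesc
  suffices h0 : ∀ e : Ext.{u + 1} (GaExt87.HomEdge.Zc (QuotSh.J Kf S₀)) (P.obj G) 1, e = 0 by
    let iso : P.obj G ≅ CGrpSh2.dualSh Kf (P.obj (CGrpSh2.Gm Kf (Spec (CommRingCat.of k')))) :=
      asIso (CGrpSh3.dualNormMap Kf f (Groth.Agent.NormMap87.normMap f Kf) (CGrpSh2.Gm Kf (Spec (CommRingCat.of k'))))
    have h1 : ∀ e : Ext.{u + 1} (GaExt87.HomEdge.Zc (QuotSh.J Kf S₀))
        (CGrpSh2.dualSh Kf (P.obj (CGrpSh2.Gm Kf (Spec (CommRingCat.of k'))))) 1, e = 0 := fun e => by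
      have := h0 (e.comp (Ext.mk₀ iso.inv) (add_zero 1))
      calc e = (e.comp (Ext.mk₀ iso.inv) (add_zero 1)).comp (Ext.mk₀ iso.hom) (add_zero 1) := by
              rw [Ext.comp_assoc_of_second_deg_zero, Ext.mk₀_comp_mk₀, Iso.inv_hom_id, Ext.comp_mk₀_id]
        _ = 0 := by rw [this, Ext.zero_comp]
    exact ⟨fun x y => (h1 x).trans (h1 y).symm⟩
  intro e
  haveI : Injective (P.obj (Injective.under G)) := Functor.injective_obj_of_injective P (h := inferInstance)
  obtain ⟨σ₀, hσ₀⟩ := Ext.covariant_sequence_exact₁ _ hS' e (Ext.eq_zero_of_injective _) (rfl : 0 + 1 = 1)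
  obtain ⟨σ, rfl⟩ := (Ext.mk₀_bijective _ _).2 σ₀
  let T₀ : Over S₀ := Over.mk (𝟙 S₀)
  let T : Over (Spec (CommRingCat.of k')) := (Over.pullback f).obj T₀
  haveI : IsIso T.hom := by
    show IsIso (pullback.snd (𝟙 S₀) f)
    infer_instance
  let down₁ : T ⟶ Over.mk (𝟙 _) := Over.homMk T.hom (Category.comp_id _)
  let up₁ : Over.mk (𝟙 _) ⟶ T := Over.homMk (inv T.hom) (IsIso.inv_hom_id _)
  let sT : BigSite.sect Kf (cokernel em) T := GaExt87.HomEdge.secs (σ ≫ c) T₀
  obtain ⟨t, ht⟩ := exists_lift_field hS (rr (cokernel em) up₁ sT)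
  let t' : (P.obj (Injective.under G)).obj.obj (op T₀) := rr _ down₁ t
  have ht' : GaExt87.HomEdge.sm (P.map π) T₀ t' = GaExt87.HomEdge.secs (σ ≫ c) T₀ := by
    show sap π T (rr _ down₁ t) = sT
    rw [sap_rr, ht, ← rr_comp]
    refine (congrArg (fun g => rr (cokernel em) g sT) (?_ : down₁ ≫ up₁ = 𝟙 T)).trans (rr_id _ _)
    exact Over.OverMorphism.ext (IsIso.hom_inv_id T.hom)
  let toT : ∀ U : Over S₀, U ⟶ T₀ := fun U => Over.homMk U.hom (Category.comp_id _)
  have huniq : ∀ {U : Over S₀} (a b : U ⟶ T₀), a = b := fun a b => Over.OverMorphism.ext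
    ((Category.comp_id a.left).symm.trans ((Over.w a).trans ((Over.w b).symm.trans (Category.comp_id b.left))))
  obtain ⟨τ, hτ⟩ := GaExt87.HomEdge.exists_secs (fun U => GaExt87.HomEdge.rs _ (toT U) t') fun U V h => by
    rw [GaExt87.HomEdge.rs_rs]
    exact congrArg (fun q => GaExt87.HomEdge.rs _ q t') (huniq _ _)
  have hlift : τ ≫ π' = σ := by
    apply (cancel_mono c).1
    refine GaExt87.HomEdge.secs_ext fun U => ?_
    rw [Category.assoc, show π' ≫ c = P.map π from cokernel.π_desc _ _ _, GaExt87.HomEdge.secs_comp, hτ,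
      GaExt87.HomEdge.sm_rs, ht', GaExt87.HomEdge.rs_secs]
  have h0 : (Ext.mk₀ π').comp hS'.extClass (zero_add 1) = 0 := hS'.comp_extClass
  rw [← hσ₀, ← hlift, ← Ext.mk₀_comp_mk₀, Ext.comp_assoc_of_second_deg_zero, h0, Ext.comp_zero]

end Groth.Agent.DualNorm68
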